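import Groth.Agent.UCurveLib.Indep

/-!
# The monomials span the curve algebra; independence forces the relations
-/

set_option autoImplicit false

universe u

open W4c5m1nsnscurves

noncomputable section

namespace UCurveLib

variable {R : Type u} [CommRing R] {m : ℕ} (v : UGen m → R)

local notation "A" => CurveAlg R m v

/-- The classes of the variables. -/
abbrev cx (y : CVar m) : A := Ideal.Quotient.mk (Ideal.span (CRel R m v)) (MvPolynomial.X y)

/-- The constants in the curve algebra. -/
abbrev cv : UGen m → A := fun g => algebraMap R A (v g)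

theorem pt_cx : Pt (cv v) (cx v) := by
  have key : ∀ p ∈ CRel R m v, Ideal.Quotient.mk (Ideal.span (CRel R m v)) p = 0 := fun p hp =>
    Ideal.Quotient.eq_zero_iff_mem.2 (Ideal.subset_span hp)
  have hC : ∀ r : R, Ideal.Quotient.mk (Ideal.span (CRel R m v)) (MvPolynomial.C r) = algebraMap R A r := fun r => rfl
  refine ⟨fun i => ?_, fun i => ?_, fun i j h => ?_⟩
  · have := key _ (Or.inl (Or.inl ⟨i, rfl⟩))
    simp only [map_sub, map_add, map_mul, hC] at this
    linear_combination this
  · have := key _ (Or.inl (Or.inr ⟨i, rfl⟩))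
    simp only [map_sub, map_add, map_mul, hC] at this
    simp only [cv]
    linear_combination this
  · have := key _ (Or.inr ⟨⟨(i, j), h⟩, rfl⟩)
    simp only [map_sub, map_add, map_mul, hC] at this
    linear_combination this

theorem cubic_cx (i : Fin m) : Cubic (cv v) i (cx v .x2) (cx v .x3) :=
  cubic_of_pt i _ _ _ ((pt_cx v).r2 i) ((pt_cx v).r3 i)

theorem dd_cv (i : Fin m) : dd (cv v) i = algebraMap R A (dd v i) := by
  simp only [dd, cv, map_add, map_mul, map_sub]

/-- The span of the monomials. -/
abbrev cspan : Submodule R A := Submodule.span R (Set.range (cmon R m v))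

theorem csmul (r : R) (z : A) : r • z = algebraMap R A r * z := Algebra.smul_def r z

theorem const_mul {r : R} {z : A} (h : z ∈ cspan v) : algebraMap R A r * z ∈ cspan v := by
  rw [← Algebra.smul_def]; exact Submodule.smul_mem _ r h

theorem x23_mem [Nonempty (Fin m)] (l : ℕ) : ∀ k, cx v .x2 ^ k * cx v .x3 ^ l ∈ cspan v := by
  induction l using Nat.strong_induction_on with
  | _ l ih =>
    intro k
    rcases k with _ | k
    · rcases l with _ | l
      · exact Submodule.subset_span ⟨none, by simp [cmon]⟩
      · exact Submodule.subset_span ⟨some (Sum.inr (.x3, l)), by simp [cmon, cx]⟩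
    rcases l with _ | _ | l
    · exact Submodule.subset_span ⟨some (Sum.inr (.x2, k)), by simp [cmon, cx]⟩
    · exact Submodule.subset_span ⟨some (Sum.inl k), by simp [cmon, cx]⟩
    have h := cubic_cx v (Classical.arbitrary (Fin m))
    simp only [Cubic, dd_cv] at h
    have e : cx v .x2 ^ (k + 1) * cx v .x3 ^ (l + 2) = cx v .x2 ^ (k + 2) * cx v .x3 ^ (l + 1) +
        cv v .a * (cx v .x2 ^ (k + 1) * cx v .x3 ^ (l + 1)) +
        algebraMap R A (v .cb - v .c) * (cx v .x2 ^ (k + 1) * cx v .x3 ^ l) +
        cv v .c * (cx v .x2 ^ k * cx v .x3 ^ (l + 1)) +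
        algebraMap R A (dd v (Classical.arbitrary (Fin m))) * (cx v .x2 ^ k * cx v .x3 ^ l) := by
      simp only [cv, map_sub] at h ⊢
      linear_combination (cx v .x2 ^ k * cx v .x3 ^ l) * h
    rw [e]
    refine add_mem (add_mem (add_mem (add_mem ?_ (const_mul v ?_)) (const_mul v ?_)) (const_mul v ?_)) (const_mul v ?_) <;>
      exact ih _ (by omega) _

theorem mon_mem [Nonempty (Fin m)] (i : Fin m) : ∀ k a b, cx v .x2 ^ a * cx v .x3 ^ b * cx v (.xi i) ^ k ∈ cspan v := by
  intro k
  induction k with
  | zero => intro a b; simpa using x23_mem v b a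
  | succ k ih =>
    intro a
    induction a with
    | zero =>
      intro b
      induction b with
      | zero => exact Submodule.subset_span ⟨some (Sum.inr (.xi i, k)), by simp [cmon, cx]⟩
      | succ b ihb =>
        have e : cx v .x2 ^ 0 * cx v .x3 ^ (b + 1) * cx v (.xi i) ^ (k + 1) =
            cx v .x2 ^ 1 * cx v .x3 ^ (b + 1) * cx v (.xi i) ^ k +
            algebraMap R A (v .cb - v .c - (v .a + v (.ci i) + v (.cbi i)) * v (.cbi i)) *
              (cx v .x2 ^ 0 * cx v .x3 ^ b * cx v (.xi i) ^ k) +
            algebraMap R A (v .a + v (.ci i) + v (.cbi i)) * (cx v .x2 ^ 0 * cx v .x3 ^ b * cx v (.xi i) ^ (k + 1)) := by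
          have h := (pt_cx v).r3 i
          simp only [cv, map_sub, map_add, map_mul] at h ⊢
          linear_combination (cx v .x3 ^ b * cx v (.xi i) ^ k) * h
        rw [e]
        exact add_mem (add_mem (ih _ _) (const_mul v (ih _ _))) (const_mul v ihb)
    | succ a iha =>
      intro b
      have e : cx v .x2 ^ (a + 1) * cx v .x3 ^ b * cx v (.xi i) ^ (k + 1) =
          cx v .x2 ^ (a + 1) * cx v .x3 ^ (b + 1) * cx v (.xi i) ^ k +
          cv v (.cbi i) * (cx v .x2 ^ (a + 1) * cx v .x3 ^ b * cx v (.xi i) ^ k) -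
          cv v .c * (cx v .x2 ^ a * cx v .x3 ^ b * cx v (.xi i) ^ k) +
          cv v (.ci i) * (cx v .x2 ^ a * cx v .x3 ^ b * cx v (.xi i) ^ (k + 1)) := by
        linear_combination (cx v .x2 ^ a * cx v .x3 ^ b * cx v (.xi i) ^ k) * (pt_cx v).r2 i
      rw [e]
      exact add_mem (sub_mem (add_mem (ih _ _) (const_mul v (ih _ _))) (const_mul v (ih _ _))) (const_mul v (iha b))

theorem xj_mem [Nonempty (Fin m)] (i j : Fin m) (h : i ≠ j) : ∀ k, cx v (.xi i) ^ k * cx v (.xi j) ∈ cspan v := by
  intro k
  induction k with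
  | zero => exact Submodule.subset_span ⟨some (Sum.inr (.xi j, 0)), by simp [cmon, cx]⟩
  | succ k ih =>
    have e : cx v (.xi i) ^ (k + 1) * cx v (.xi j) = cx v .x2 ^ 1 * cx v .x3 ^ 1 * cx v (.xi i) ^ k +
        cv v (.cij i j h) * (cx v (.xi i) ^ k * cx v (.xi j)) +
        cv v (.cij j i h.symm) * (cx v .x2 ^ 0 * cx v .x3 ^ 0 * cx v (.xi i) ^ (k + 1)) -
        cv v .c * (cx v .x2 ^ 0 * cx v .x3 ^ 0 * cx v (.xi i) ^ k) := by
      linear_combination (cx v (.xi i) ^ k) * (pt_cx v).r4 i j h
    rw [e]
    exact sub_mem (add_mem (add_mem (mon_mem v i _ _ _) (const_mul v ih)) (const_mul v (mon_mem v i _ _ _)))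
      (const_mul v (mon_mem v i _ _ _))

theorem var_mul_cmon_mem [Nonempty (Fin m)] (y : CVar m) (b : Option (ℕ ⊕ (CVar m × ℕ))) :
    cx v y * cmon R m v b ∈ cspan v := by
  let i₀ := Classical.arbitrary (Fin m)
  match b with
  | none => exact Submodule.subset_span ⟨some (Sum.inr (y, 0)), by simp [cmon, cx]⟩
  | some (Sum.inl k) =>
    cases y with
    | x2 => convert x23_mem v 1 (k + 2) using 1; simp [cmon, cx]; ring
    | x3 => convert x23_mem v 2 (k + 1) using 1; simp [cmon, cx]; ring
    | xi i => convert mon_mem v i 1 (k + 1) 1 using 1; simp [cmon, cx]; ring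
  | some (Sum.inr (z, k)) =>
    cases y with
    | x2 =>
      cases z with
      | x2 => convert x23_mem v 0 (k + 2) using 1; simp [cmon, cx]; ring
      | x3 => convert x23_mem v (k + 1) 1 using 1; simp [cmon, cx]
      | xi i => convert mon_mem v i (k + 1) 1 0 using 1; simp [cmon, cx]
    | x3 =>
      cases z with
      | x2 => convert x23_mem v 1 (k + 1) using 1; simp [cmon, cx]; ring
      | x3 => convert x23_mem v (k + 2) 0 using 1; simp [cmon, cx]; ring
      | xi i => convert mon_mem v i (k + 1) 0 1 using 1; simp [cmon, cx]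
    | xi j =>
      cases z with
      | x2 => convert mon_mem v j 1 (k + 1) 0 using 1; simp [cmon, cx]; ring
      | x3 => convert mon_mem v j 1 0 (k + 1) using 1; simp [cmon, cx]; ring
      | xi i =>
        rcases eq_or_ne i j with rfl | h
        · convert mon_mem v i (k + 2) 0 0 using 1; simp [cmon, cx]; ring
        · convert xj_mem v i j h (k + 1) using 1; simp [cmon, cx]; ring

theorem span_cmon [Nonempty (Fin m)] : Submodule.span R (Set.range (cmon R m v)) = ⊤ := by
  rw [eq_top_iff]
  rintro z -
  obtain ⟨p, rfl⟩ := Ideal.Quotient.mk_surjective z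
  induction p using MvPolynomial.induction_on with
  | C r =>
    have := const_mul v (r := r) (Submodule.subset_span ⟨none, rfl⟩ : (1 : A) ∈ cspan v)
    rwa [mul_one] at this
  | add p q hp hq => rw [map_add]; exact add_mem hp hq
  | mul_X p y hp =>
    rw [map_mul, mul_comm]
    refine Submodule.span_induction (p := fun z _ => cx v y * z ∈ cspan v) ?_ ?_ ?_ ?_ hp
    · rintro _ ⟨b, rfl⟩; exact var_mul_cmon_mem v y b
    · rw [mul_zero]; exact zero_mem _
    · intro a b _ _ ha hb; rw [mul_add]; exact add_mem ha hb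
    · intro r a _ ha; rw [mul_smul_comm]; exact Submodule.smul_mem _ r ha

/-- Linear independence of the monomials forces the relations. -/
theorem rels_of_linearIndependent (hli : LinearIndependent R (cmon R m v)) : Rels v := by
  classical
  have h2 := (pt_cx v).r2
  have h3 := (pt_cx v).r3
  have h4 := (pt_cx v).r4
  have hc := cubic_cx v
  simp only [Cubic, dd, cv] at h2 h3 h4 hc
  rw [linearIndependent_iff] at hli
  have hpair : ∀ i j (h : i ≠ j),
      v (.cij i j h) + v (.cij j i h.symm) = v .a + v (.ci i) + v (.cbi i) + v (.ci j) + v (.cbi j) ∧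
      v .c = v (.cij j i h.symm) * v (.ci j) + v (.cij i j h) * v (.ci i) - v (.ci i) * v (.ci j) ∧
      v .cb = v (.cij j i h.symm) * v (.cbi i) + v (.cij i j h) * v (.cbi j) - v (.cbi i) * v (.cbi j) := by
    intro i j h
    let lL : R := v (.cij i j h) + v (.cij j i h.symm) - (v .a + v (.ci i) + v (.cbi i) + v (.ci j) + v (.cbi j))
    let lX : R := v .c - (v (.cij j i h.symm) * v (.ci j) + v (.cij i j h) * v (.ci i) - v (.ci i) * v (.ci j)) + v (.ci j) * lL
    let lY : R := v (.cij j i h.symm) * v (.cbi i) + v (.cij i j h) * v (.cbi j) - v (.cbi i) * v (.cbi j) - v .cb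
    have e : lL • cmon R m v (some (Sum.inl 0)) + (-(v .c * lL)) • cmon R m v none +
        lX • cmon R m v (some (Sum.inr (.xi j, 0))) + lY • cmon R m v (some (Sum.inr (.x2, 0))) = 0 := by
      have e4 := h4 i j h
      have e2i := h2 i
      have e2j := h2 j
      have e3 := h3 j
      have ec := hc j
      simp only [csmul, cmon, zero_add, pow_one, map_mul, lL, lX, lY, map_add, map_sub, map_neg]
      linear_combination
        (algebraMap R A (v (.ci i)) - cx v .x2) * e4 +
        (cx v (.xi j) - algebraMap R A (v (.cij j i h.symm))) * e2i +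
        (algebraMap R A (v (.cbi i)) + cx v .x3 - algebraMap R A (v (.cij i j h))) * e2j +
        algebraMap R A (v (.ci j)) * e3 + ec
    have hl := hli (Finsupp.single (some (Sum.inl 0)) lL + Finsupp.single none (-(v .c * lL)) +
      Finsupp.single (some (Sum.inr (.xi j, 0))) lX + Finsupp.single (some (Sum.inr (.x2, 0))) lY)
      (by simpa [Finsupp.linearCombination_single] using e)
    have eL : lL = 0 := by simpa using DFunLike.congr_fun hl (some (Sum.inl 0))
    have eX : lX = 0 := by simpa using DFunLike.congr_fun hl (some (Sum.inr (.xi j, 0)))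
    have eY : lY = 0 := by simpa using DFunLike.congr_fun hl (some (Sum.inr (.x2, 0)))
    simp only [lL, lX, lY] at eL eX eY
    exact ⟨sub_eq_zero.1 eL, by linear_combination eX - v (.ci j) * eL, by linear_combination -eY⟩
  refine ⟨fun i j h => (hpair i j h).1, fun i j h => (hpair i j h).2.1, fun i j h => (hpair i j h).2.2,
    fun i j k hij hjk hik => ?_⟩
  let K : R := v (.cij i j hij) * v (.cij j k hjk) + v (.cij j i hij.symm) * v (.cij i k hik) -
    v (.cij i k hik) * v (.cij j k hjk) + (v .a + v (.ci k) + v (.cbi k)) * v (.ci k) - v .c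
  let K' : R := v (.cij j k hjk) * v (.cij k i hik.symm) + v (.cij k j hjk.symm) * v (.cij j i hij.symm) -
    v (.cij j i hij.symm) * v (.cij k i hik.symm) + (v .a + v (.ci i) + v (.cbi i)) * v (.ci i) - v .c
  let M : R := v (.ci k) + v (.cbi k) - v (.ci i) - v (.cbi i) + v (.cij i j hij) + v (.cij j i hij.symm) -
    v (.cij j k hjk) - v (.cij k j hjk.symm)
  have e : K • cmon R m v (some (Sum.inr (.xi k, 0))) + (-K') • cmon R m v (some (Sum.inr (.xi i, 0))) +
      M • cmon R m v (some (Sum.inl 0)) + (-(v .c * M)) • cmon R m v none = 0 := by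
    have eij := h4 i j hij
    have ejk := h4 j k hjk
    have eik := h4 i k hik
    have e2i := h2 i
    have e2k := h2 k
    have e3i := h3 i
    have e3k := h3 k
    have eci := hc i
    have eck := hc k
    simp only [csmul, cmon, zero_add, pow_one, map_mul, K, K', M, map_add, map_sub, map_neg]
    linear_combination
      -(cx v (.xi k) - algebraMap R A (v (.cij k j hjk.symm))) * eij -
      (algebraMap R A (v (.cij i j hij)) - cx v (.xi i)) * ejk -
      (algebraMap R A (v (.cij j i hij.symm)) - algebraMap R A (v (.cij j k hjk))) * eik -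
      cx v .x3 * e2k + cx v .x3 * e2i - algebraMap R A (v (.ci k)) * e3k + algebraMap R A (v (.ci i)) * e3i - eck + eci
  have hl := hli (Finsupp.single (some (Sum.inr (.xi k, 0))) K + Finsupp.single (some (Sum.inr (.xi i, 0))) (-K') +
    Finsupp.single (some (Sum.inl 0)) M + Finsupp.single none (-(v .c * M)))
    (by simpa [Finsupp.linearCombination_single] using e)
  have eK : K = 0 := by simpa [hik.symm, hik] using DFunLike.congr_fun hl (some (Sum.inr (.xi k, 0)))
  exact sub_eq_zero.1 eK

theorem rels_iff : Rels v ↔ ∀ p ∈ URel R m, MvPolynomial.eval v p = 0 := by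
  constructor
  · rintro hv _ (((⟨⟨⟨i, j⟩, h⟩, rfl⟩ | ⟨⟨⟨i, j⟩, h⟩, rfl⟩) | ⟨⟨⟨i, j⟩, h⟩, rfl⟩) | ⟨⟨⟨i, j, k⟩, h1, h2, h3⟩, rfl⟩) <;>
      simp only [map_sub, map_add, map_mul, MvPolynomial.eval_X]
    · linear_combination hv.lin i j h
    · linear_combination -(hv.q1 i j h)
    · linear_combination -(hv.q2 i j h)
    · linear_combination hv.q3 i j k h1 h2 h3
  · intro H
    refine ⟨fun i j h => ?_, fun i j h => ?_, fun i j h => ?_, fun i j k h1 h2 h3 => ?_⟩
    · have := H _ (Or.inl (Or.inl (Or.inl ⟨⟨(i, j), h⟩, rfl⟩)))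
      simp only [map_sub, map_add, map_mul, MvPolynomial.eval_X] at this
      linear_combination this
    · have := H _ (Or.inl (Or.inl (Or.inr ⟨⟨(i, j), h⟩, rfl⟩)))
      simp only [map_sub, map_add, map_mul, MvPolynomial.eval_X] at this
      linear_combination -this
    · have := H _ (Or.inl (Or.inr ⟨⟨(i, j), h⟩, rfl⟩))
      simp only [map_sub, map_add, map_mul, MvPolynomial.eval_X] at this
      linear_combination -this
    · have := H _ (Or.inr ⟨⟨(i, j, k), h1, h2, h3⟩, rfl⟩)
      simp only [map_sub, map_add, map_mul, MvPolynomial.eval_X] at this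
      linear_combination this

end UCurveLib
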