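import Groth.Agent.UCurveLib.Iso
import Mathlib.Algebra.TrivSqZeroExt.Basic
import Mathlib.RingTheory.Ideal.Cotangent
import Mathlib.LinearAlgebra.Dimension.Constructions
import Mathlib.Tactic.Module
import Mathlib.Data.Nat.Choose.Basic

/-!
# The cotangent space of `U_n` at the origin
-/

set_option autoImplicit false

universe u

open W4c5m1nsnscurves

noncomputable section

namespace UCurveLib

variable {m : ℕ}

/-- Indices of the weight-one generators. -/
abbrev WIdx (m : ℕ) : Type := (Unit ⊕ Fin m ⊕ Fin m) ⊕ {q : Fin m × Fin m // q.1 < q.2}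

/-- The weight-one generator of an index. -/
def wgen : WIdx m → UGen m
  | .inl (.inl _) => .a
  | .inl (.inr (.inl i)) => .ci i
  | .inl (.inr (.inr i)) => .cbi i
  | .inr q => .cij q.1.1 q.1.2 (ne_of_lt q.2)

theorem card_lt_pairs (m : ℕ) : Fintype.card {q : Fin m × Fin m // q.1 < q.2} = m * (m - 1) / 2 := by
  have h1 : Fintype.card {q : Fin m × Fin m // q.1 < q.2} = Fintype.card (Σ j : Fin m, Fin j.val) :=
    Fintype.card_congr
      { toFun := fun q => ⟨q.1.2, ⟨q.1.1.val, q.2⟩⟩
        invFun := fun p => ⟨(⟨p.2.val, p.2.isLt.trans p.1.isLt⟩, p.1), p.2.isLt⟩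
        left_inv := fun _ => rfl
        right_inv := fun _ => rfl }
  rw [h1, Fintype.card_sigma]
  simp only [Fintype.card_fin]
  rw [Fin.sum_univ_eq_sum_range (fun i => i), Finset.sum_range_id]

theorem card_wIdx (m : ℕ) : Fintype.card (WIdx m) = (m + 2) * (m + 1) / 2 := by
  simp only [Fintype.card_sum, Fintype.card_unit, Fintype.card_fin, card_lt_pairs]
  rcases m with _ | m
  · rfl
  · rw [Nat.add_sub_cancel, show (m + 1 + 2) * (m + 1 + 1) = (m + 1) * m + 2 * (1 + ((m + 1) + (m + 1))) by ring,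
      Nat.add_mul_div_left _ _ two_pos]
    ring

section

variable (k : Type u) [Field k]

/-- The linear parts of the generators. -/
def wvec : UGen m → (WIdx m → k)
  | .a => Pi.single (.inl (.inl ())) 1
  | .c => 0
  | .cb => 0
  | .ci i => Pi.single (.inl (.inr (.inl i))) 1
  | .cbi i => Pi.single (.inl (.inr (.inr i))) 1
  | .cij i j h => if h' : i < j then Pi.single (.inr ⟨(i, j), h'⟩) 1
      else Pi.single (.inl (.inl ())) 1 + Pi.single (.inl (.inr (.inl i))) 1 + Pi.single (.inl (.inr (.inr i))) 1 +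
        Pi.single (.inl (.inr (.inl j))) 1 + Pi.single (.inl (.inr (.inr j))) 1 -
        Pi.single (.inr ⟨(j, i), lt_of_le_of_ne (not_lt.1 h') h.symm⟩) 1

theorem wvec_wgen (t : WIdx m) : wvec k (wgen t) = Pi.single t 1 := by
  rcases t with (u | i | i) | ⟨q, hq⟩
  · rfl
  · rfl
  · rfl
  · simp [wgen, wvec, dif_pos hq]

/-- The values in the square-zero extension. -/
abbrev tval : UGen m → TrivSqZeroExt k (WIdx m → k) := fun g => TrivSqZeroExt.inr (wvec k g)

theorem rels_tval : Rels (tval (m := m) k) := by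
  refine ⟨fun i j h => ?_, fun i j h => ?_, fun i j h => ?_, fun i j l h1 h2 h3 => ?_⟩
  · rcases lt_or_gt_of_ne h with h' | h'
    · simp only [tval, ← TrivSqZeroExt.inr_add]
      congr 1
      simp only [wvec, dif_pos h', dif_neg (lt_asymm h')]
      module
    · simp only [tval, ← TrivSqZeroExt.inr_add]
      congr 1
      simp only [wvec, dif_pos h', dif_neg (lt_asymm h')]
      module
  · simp [tval, TrivSqZeroExt.inr_mul_inr, wvec]
  · simp [tval, TrivSqZeroExt.inr_mul_inr, wvec]
  · simp [tval, add_mul, TrivSqZeroExt.inr_mul_inr, wvec]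

/-- The map to the square-zero extension. -/
def toTriv : URing k m →ₐ[k] TrivSqZeroExt k (WIdx m → k) :=
  Ideal.Quotient.liftₐ _ (MvPolynomial.aeval (tval k)) (by
    intro p hp
    refine (Ideal.span_le (I := RingHom.ker _)).2 ?_ hp
    have h := rels_tval (m := m) k
    rintro _ (((⟨⟨⟨i, j⟩, e⟩, rfl⟩ | ⟨⟨⟨i, j⟩, e⟩, rfl⟩) | ⟨⟨⟨i, j⟩, e⟩, rfl⟩) | ⟨⟨⟨i, j, l⟩, a, b, c⟩, rfl⟩) <;>
      simp only [SetLike.mem_coe, RingHom.mem_ker, map_sub, map_add, map_mul, MvPolynomial.aeval_X]
    · linear_combination h.lin i j e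
    · linear_combination -(h.q1 i j e)
    · linear_combination -(h.q2 i j e)
    · linear_combination h.q3 i j l a b c)

theorem toTriv_ugen (g : UGen m) : toTriv k (ugen k m g) = TrivSqZeroExt.inr (wvec k g) := by
  show MvPolynomial.aeval (tval k) (MvPolynomial.X g) = _
  rw [MvPolynomial.aeval_X]

theorem fst_toTriv {x : URing k m} (hx : x ∈ uorigin k m) : (toTriv k x).fst = 0 := by
  refine (Submodule.span_induction (p := fun y _ => (toTriv k y).fst = 0) ?_ ?_ ?_ ?_ hx)
  · rintro _ ⟨g, rfl⟩; rw [toTriv_ugen]; rfl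
  · rw [map_zero]; rfl
  · intro a b _ _ ha hb; rw [map_add, TrivSqZeroExt.fst_add, ha, hb, add_zero]
  · intro r a _ ha; rw [smul_eq_mul, map_mul, TrivSqZeroExt.fst_mul, ha, mul_zero]

theorem snd_toTriv_sq {x : URing k m} (hx : x ∈ uorigin k m ^ 2) : (toTriv k x).snd = 0 := by
  rw [sq] at hx
  refine Submodule.mul_induction_on hx (fun a ha b hb => ?_) fun a b ha hb => ?_
  · rw [map_mul, TrivSqZeroExt.snd_mul, fst_toTriv k ha, fst_toTriv k hb]
    simp
  · rw [map_add, TrivSqZeroExt.snd_add, ha, hb, add_zero]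

theorem ugen_mem_origin (g : UGen m) : ugen k m g ∈ uorigin k m := Ideal.subset_span ⟨g, rfl⟩

theorem cotangent_smul (x : URing k m) (z : (uorigin k m).Cotangent) :
    x • z = algebraMap k (URing k m) ((toTriv k x).fst) • z := by
  have hx : x - algebraMap k (URing k m) ((toTriv k x).fst) ∈ uorigin k m := by
    obtain ⟨p, rfl⟩ := Ideal.Quotient.mk_surjective x
    induction p using MvPolynomial.induction_on with
    | C r =>
      show algebraMap k (URing k m) r - algebraMap k (URing k m) ((toTriv k (algebraMap k (URing k m) r)).fst) ∈ _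
      rw [AlgHom.commutes, TrivSqZeroExt.algebraMap_eq_inl, TrivSqZeroExt.fst_inl, sub_self]
      exact zero_mem _
    | add p q hp hq =>
      rw [map_add, map_add, TrivSqZeroExt.fst_add, map_add, add_sub_add_comm]
      exact add_mem hp hq
    | mul_X p g hp =>
      have hg : (Ideal.Quotient.mk (Ideal.span (URel k m))) (MvPolynomial.X g) ∈ uorigin k m := ugen_mem_origin k g
      rw [map_mul, map_mul, TrivSqZeroExt.fst_mul, fst_toTriv k hg, mul_zero, map_zero, sub_zero]
      exact Ideal.mul_mem_left _ _ hg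
  obtain ⟨y, rfl⟩ := Ideal.toCotangent_surjective _ z
  have e : ∀ r : URing k m, r • (uorigin k m).toCotangent y = (uorigin k m).toCotangent (r • y) := fun r =>
    ((uorigin k m).toCotangent.map_smul r y).symm
  rw [e, e, ← sub_eq_zero, ← map_sub, Ideal.toCotangent_eq_zero, sq]
  show x * y.1 - algebraMap k (URing k m) _ * y.1 ∈ _
  rw [← sub_mul]
  exact Ideal.mul_mem_mul hx y.2

theorem smul_cot (r : k) (z : (uorigin k m).Cotangent) : algebraMap k (URing k m) r • z = r • z :=
  algebraMap_smul (URing k m) r z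

theorem wgen_spans (hm : 2 ≤ m) : Submodule.span k (Set.range fun t : WIdx m =>
    (uorigin k m).toCotangent ⟨ugen k m (wgen t), ugen_mem_origin k _⟩) = ⊤ := by
  set S := Submodule.span k (Set.range fun t : WIdx m =>
    (uorigin k m).toCotangent ⟨ugen k m (wgen t), ugen_mem_origin k _⟩)
  let cl : UGen m → (uorigin k m).Cotangent := fun g => (uorigin k m).toCotangent ⟨ugen k m g, ugen_mem_origin k g⟩
  have hw : ∀ t : WIdx m, cl (wgen t) ∈ S := fun t => Submodule.subset_span ⟨t, rfl⟩
  have h := rels_ugen (R := k) (m := m)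
  have hsq : ∀ g g' : UGen m, ugen k m g * ugen k m g' ∈ uorigin k m ^ 2 := fun g g' => by
    rw [sq]; exact Ideal.mul_mem_mul (ugen_mem_origin k g) (ugen_mem_origin k g')
  have hij : (⟨0, by omega⟩ : Fin m) ≠ ⟨1, by omega⟩ := by simp [Fin.ext_iff]
  have hgen : ∀ g, cl g ∈ S := by
    intro g
    cases g with
    | a => exact hw (.inl (.inl ()))
    | ci i => exact hw (.inl (.inr (.inl i)))
    | cbi i => exact hw (.inl (.inr (.inr i)))
    | c =>
      have : cl .c = 0 := (Ideal.toCotangent_eq_zero _ _).2 (by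
        show ugen k m .c ∈ _
        rw [h.q1 _ _ hij]
        exact sub_mem (add_mem (hsq _ _) (hsq _ _)) (hsq _ _))
      rw [this]; exact zero_mem _
    | cb =>
      have : cl .cb = 0 := (Ideal.toCotangent_eq_zero _ _).2 (by
        show ugen k m .cb ∈ _
        rw [h.q2 _ _ hij]
        exact sub_mem (add_mem (hsq _ _) (hsq _ _)) (hsq _ _))
      rw [this]; exact zero_mem _
    | cij i j hne =>
      rcases lt_or_gt_of_ne hne with h' | h'
      · exact hw (.inr ⟨(i, j), h'⟩)
      · have : cl (.cij i j hne) =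
            cl .a + cl (.ci i) + cl (.cbi i) + cl (.ci j) + cl (.cbi j) - cl (.cij j i hne.symm) := by
          simp only [cl, ← map_add, ← map_sub]
          congr 1
          refine Subtype.ext ?_
          show ugen k m (.cij i j hne) = ugen k m .a + ugen k m (.ci i) + ugen k m (.cbi i) + ugen k m (.ci j) +
            ugen k m (.cbi j) - ugen k m (.cij j i hne.symm)
          linear_combination h.lin i j hne
        rw [this]
        exact sub_mem (add_mem (add_mem (add_mem (add_mem (hw (.inl (.inl ()))) (hw (.inl (.inr (.inl i)))))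
          (hw (.inl (.inr (.inr i))))) (hw (.inl (.inr (.inl j))))) (hw (.inl (.inr (.inr j))))) (hw (.inr ⟨(j, i), h'⟩))
  rw [eq_top_iff]
  rintro z -
  obtain ⟨⟨y, hy⟩, rfl⟩ := Ideal.toCotangent_surjective _ z
  refine Submodule.span_induction (p := fun y hy => (uorigin k m).toCotangent ⟨y, hy⟩ ∈ S) ?_ ?_ ?_ ?_ hy
  · rintro _ ⟨g, rfl⟩; exact hgen g
  · exact (map_zero (uorigin k m).toCotangent).symm ▸ zero_mem S
  · intro a b _ _ ha hb
    exact (map_add (uorigin k m).toCotangent ⟨a, _⟩ ⟨b, _⟩).symm ▸ add_mem ha hb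
  · intro r a hy' ha
    have : (uorigin k m).toCotangent ⟨r • a, Submodule.smul_mem _ r hy'⟩ = r • (uorigin k m).toCotangent ⟨a, hy'⟩ :=
      map_smul (uorigin k m).toCotangent r ⟨a, hy'⟩
    rw [this, cotangent_smul, smul_cot]
    exact Submodule.smul_mem _ _ ha

theorem finrank_cotangent (hm : 2 ≤ m) : Module.finrank k (uorigin k m).Cotangent = (m + 2) * (m + 1) / 2 := by
  classical
  have hli : LinearIndependent k fun t : WIdx m =>
      (uorigin k m).toCotangent ⟨ugen k m (wgen t), ugen_mem_origin k _⟩ := by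
    rw [Fintype.linearIndependent_iff]
    intro f hf t
    have hsum : ∑ s, algebraMap k (URing k m) (f s) * ugen k m (wgen s) ∈ uorigin k m :=
      sum_mem fun s _ => Ideal.mul_mem_left _ _ (ugen_mem_origin k _)
    have h0 : (uorigin k m).toCotangent ⟨_, hsum⟩ = 0 := by
      rw [← hf]
      rw [show (⟨_, hsum⟩ : uorigin k m) = ∑ s, algebraMap k (URing k m) (f s) •
        (⟨ugen k m (wgen s), ugen_mem_origin k _⟩ : uorigin k m) from Subtype.ext (by simp only [Submodule.coe_sum, Submodule.coe_smul, smul_eq_mul]), map_sum]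
      exact Finset.sum_congr rfl fun s _ => by rw [map_smul, smul_cot]
    have h1 := snd_toTriv_sq k ((Ideal.toCotangent_eq_zero _ _).1 h0)
    simp only [map_sum, map_mul, AlgHom.commutes, toTriv_ugen, TrivSqZeroExt.algebraMap_eq_inl,
      TrivSqZeroExt.inl_mul_inr, TrivSqZeroExt.snd_sum, TrivSqZeroExt.snd_inr, wvec_wgen] at h1
    simpa [Finset.sum_apply, Pi.single_apply] using congrFun h1 t
  rw [Module.finrank_eq_card_basis (Module.Basis.mk hli (wgen_spans k hm).ge), card_wIdx]

end

theorem adjoin_weight_one (hm : 2 ≤ m) :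
    Algebra.adjoin ℤ ({ugen ℤ m .a} ∪ Set.range (fun i : Fin m => ugen ℤ m (.ci i)) ∪
        Set.range (fun i : Fin m => ugen ℤ m (.cbi i)) ∪
        Set.range (fun q : {q : Fin m × Fin m // q.1 < q.2} => ugen ℤ m (.cij q.1.1 q.1.2 (ne_of_lt q.2)))) = ⊤ := by
  set A := Algebra.adjoin ℤ ({ugen ℤ m .a} ∪ Set.range (fun i : Fin m => ugen ℤ m (.ci i)) ∪
        Set.range (fun i : Fin m => ugen ℤ m (.cbi i)) ∪
        Set.range (fun q : {q : Fin m × Fin m // q.1 < q.2} => ugen ℤ m (.cij q.1.1 q.1.2 (ne_of_lt q.2))))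
  have h := rels_ugen (R := ℤ) (m := m)
  have ha : ugen ℤ m .a ∈ A := Algebra.subset_adjoin (Or.inl (Or.inl (Or.inl rfl)))
  have hc : ∀ i, ugen ℤ m (.ci i) ∈ A := fun i => Algebra.subset_adjoin (Or.inl (Or.inl (Or.inr ⟨i, rfl⟩)))
  have hb : ∀ i, ugen ℤ m (.cbi i) ∈ A := fun i => Algebra.subset_adjoin (Or.inl (Or.inr ⟨i, rfl⟩))
  have hp : ∀ i j (e : i ≠ j), ugen ℤ m (.cij i j e) ∈ A := by
    intro i j e
    rcases lt_or_gt_of_ne e with h' | h'
    · exact Algebra.subset_adjoin (Or.inr ⟨⟨(i, j), h'⟩, rfl⟩)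
    · rw [eq_sub_of_add_eq (h.lin i j e)]
      exact sub_mem (add_mem (add_mem (add_mem (add_mem ha (hc i)) (hb i)) (hc j)) (hb j))
        (Algebra.subset_adjoin (Or.inr ⟨⟨(j, i), h'⟩, rfl⟩))
  have hij : (⟨0, by omega⟩ : Fin m) ≠ ⟨1, by omega⟩ := by simp [Fin.ext_iff]
  have hgen : ∀ g, ugen ℤ m g ∈ A := by
    intro g
    cases g with
    | a => exact ha
    | ci i => exact hc i
    | cbi i => exact hb i
    | cij i j e => exact hp i j e
    | c =>
      rw [h.q1 _ _ hij]
      exact sub_mem (add_mem (mul_mem (hp _ _ _) (hc _)) (mul_mem (hp _ _ _) (hc _))) (mul_mem (hc _) (hc _))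
    | cb =>
      rw [h.q2 _ _ hij]
      exact sub_mem (add_mem (mul_mem (hp _ _ _) (hb _)) (mul_mem (hp _ _ _) (hb _))) (mul_mem (hb _) (hb _))
  rw [eq_top_iff]
  rintro z -
  obtain ⟨p, rfl⟩ := Ideal.Quotient.mk_surjective z
  induction p using MvPolynomial.induction_on with
  | C r => exact algebraMap_mem A r
  | add p q hp hq => rw [map_add]; exact add_mem hp hq
  | mul_X p g hp => rw [map_mul]; exact mul_mem hp (hgen g)

end UCurveLib
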