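import Groth.Agent.UCurveLib.Iso
import Groth.Agent.S18247
import Mathlib.RingTheory.AlgebraTower
import Mathlib.LinearAlgebra.Dimension.Finrank
import Mathlib.Algebra.DirectSum.Module

/-!
# A homogeneous basis of the coordinate ring of `U_n` and its Hilbert series
-/

set_option autoImplicit false

universe u

open W4c5m1nsnscurves MvPolynomial

noncomputable section

namespace UCurveLib

variable {R : Type u} [CommRing R] {m : ℕ}

theorem weight_mapDomain {σ τ : Type} (f : σ → τ) (w : σ → ℕ) (w' : τ → ℕ) (hw : ∀ i, w' (f i) = w i) (s : σ →₀ ℕ) :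
    Finsupp.weight w' (Finsupp.mapDomain f s) = Finsupp.weight w s := by
  rw [Finsupp.weight_apply, Finsupp.weight_apply]
  refine (Finsupp.sum_mapDomain_index (by simp) (by simp [add_mul])).trans ?_
  exact Finsupp.sum_congr fun i _ => by rw [hw]

theorem rename_mem {σ τ : Type} (f : σ → τ) (w : σ → ℕ) (w' : τ → ℕ) (hw : ∀ i, w' (f i) = w i) {p : MvPolynomial σ R}
    {d : ℕ} (hp : IsWeightedHomogeneous w p d) : IsWeightedHomogeneous w' (rename f p) d := by
  rw [as_sum p, map_sum]
  refine IsWeightedHomogeneous.sum _ _ _ fun s hs => ?_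
  rw [rename_monomial]
  refine isWeightedHomogeneous_monomial _ _ _ ?_
  rw [weight_mapDomain f w w' hw]
  exact hp (mem_support_iff.1 hs)

theorem mem_upiece {d : ℕ} {x : URing R m} :
    x ∈ upiece R m d ↔ ∃ p : MvPolynomial (UGen m) R, IsWeightedHomogeneous uwt p d ∧
      Ideal.Quotient.mk (Ideal.span (URel R m)) p = x := by
  simp only [upiece, GrQuot.mem_quot_iff, mem_weightedHomogeneousSubmodule]

theorem upiece_mul {d e : ℕ} {x y : URing R m} (hx : x ∈ upiece R m d) (hy : y ∈ upiece R m e) :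
    x * y ∈ upiece R m (d + e) := by
  obtain ⟨p, hp, rfl⟩ := mem_upiece.1 hx
  obtain ⟨q, hq, rfl⟩ := mem_upiece.1 hy
  exact mem_upiece.2 ⟨p * q, hp.mul hq, map_mul _ _ _⟩

theorem upiece_one : (1 : URing R m) ∈ upiece R m 0 :=
  mem_upiece.2 ⟨1, isWeightedHomogeneous_one R _, map_one _⟩

theorem upiece_pow {x : URing R m} (hx : x ∈ upiece R m 1) : ∀ k, x ^ k ∈ upiece R m k
  | 0 => by rw [pow_zero]; exact upiece_one
  | k + 1 => by rw [pow_succ]; exact upiece_mul (upiece_pow hx k) hx

theorem ugen_mem (g : UGen m) : ugen R m g ∈ upiece R m (uwt g) :=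
  mem_upiece.2 ⟨X g, isWeightedHomogeneous_X R _ g, rfl⟩

theorem uincl_mem {d : ℕ} {x : URing R m} (hx : x ∈ upiece R m d) : uincl R m x ∈ upiece R (m + 1) d := by
  obtain ⟨p, hp, rfl⟩ := mem_upiece.1 hx
  exact mem_upiece.2 ⟨rename UGen.castSucc p, rename_mem _ _ _ (fun g => by cases g <;> rfl) hp, rfl⟩

theorem lastPt_mem (y : CVar m) : lastPt (ugen R (m + 1)) y ∈ upiece R (m + 1) 1 := by
  cases y with
  | x2 => exact ugen_mem (R := R) (.ci _)
  | x3 => exact add_mem (add_mem (ugen_mem (R := R) .a) (ugen_mem (R := R) (.ci _))) (ugen_mem (R := R) (.cbi _))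
  | xi i => exact ugen_mem (R := R) (.cij _ _ _)

theorem toSucc_cmon_mem (b : Option (ℕ ⊕ (CVar m × ℕ))) :
    toSucc (cmon (URing R m) m (ugen R m) b) ∈ upiece R (m + 1) (lev b) := by
  match b with
  | none => simp only [cmon, lev, map_one]; exact upiece_one
  | some (Sum.inl k) =>
    simp only [cmon, lev, map_mul, map_pow, toSucc_mk_X]
    exact upiece_mul (d := k + 1) (upiece_pow (lastPt_mem _) _) (lastPt_mem _)
  | some (Sum.inr (y, k)) =>
    simp only [cmon, lev, map_pow, toSucc_mk_X]
    exact upiece_pow (lastPt_mem _) _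

theorem prod_scale {σ : Type} {A : Type u} [CommSemiring A] (u : σ → A) (w : σ → ℕ) (t : Finset σ) (s : σ → ℕ) :
    ∏ g ∈ t, (Polynomial.C (u g) * Polynomial.X ^ w g) ^ s g =
      Polynomial.C (∏ g ∈ t, u g ^ s g) * Polynomial.X ^ (∑ g ∈ t, w g * s g) := by
  simp only [mul_pow, Finset.prod_mul_distrib, ← pow_mul, Finset.prod_pow_eq_pow_sum, map_prod, map_pow]

/-- Scaling the generators by their weights. -/
def grad : URing R m →ₐ[R] Polynomial (URing R m) :=
  Ideal.Quotient.liftₐ _ (aeval fun g => Polynomial.C (ugen R m g) * Polynomial.X ^ uwt g) (by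
    intro p hp
    refine (Ideal.span_le (I := RingHom.ker _)).2 ?_ hp
    have h := rels_ugen (R := R) (m := m)
    rintro _ (((⟨⟨⟨i, j⟩, e⟩, rfl⟩ | ⟨⟨⟨i, j⟩, e⟩, rfl⟩) | ⟨⟨⟨i, j⟩, e⟩, rfl⟩) | ⟨⟨⟨i, j, k⟩, a, b, c⟩, rfl⟩) <;>
      simp only [SetLike.mem_coe, RingHom.mem_ker, map_sub, map_add, map_mul, aeval_X, uwt]
    · have := congrArg Polynomial.C (h.lin i j e)
      simp only [map_add] at this
      linear_combination Polynomial.X * this
    · have := congrArg Polynomial.C (h.q1 i j e)
      simp only [map_add, map_sub, map_mul] at this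
      linear_combination -(Polynomial.X ^ 2) * this
    · have := congrArg Polynomial.C (h.q2 i j e)
      simp only [map_add, map_sub, map_mul] at this
      linear_combination -(Polynomial.X ^ 2) * this
    · have := congrArg Polynomial.C (h.q3 i j k a b c)
      simp only [map_add, map_sub, map_mul] at this
      linear_combination (Polynomial.X ^ 2) * this)

theorem grad_of_mem {d : ℕ} {x : URing R m} (hx : x ∈ upiece R m d) : grad x = Polynomial.C x * Polynomial.X ^ d := by
  obtain ⟨p, hp, rfl⟩ := mem_upiece.1 hx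
  show aeval _ p = _
  conv_lhs => rw [as_sum p, map_sum]
  conv_rhs => rw [as_sum p, map_sum, map_sum, Finset.sum_mul]
  refine Finset.sum_congr rfl fun s hs => ?_
  have hw : ∑ g ∈ s.support, uwt g * s g = d := by
    rw [← hp (mem_support_iff.1 hs), Finsupp.weight_apply, Finsupp.sum]
    exact Finset.sum_congr rfl fun g _ => mul_comm _ _
  rw [aeval_monomial, Finsupp.prod]
  refine (congrArg (algebraMap R (Polynomial (URing R m)) (coeff s p) * ·) (prod_scale (ugen R m) uwt s.support s)).trans ?_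
  rw [hw, ← mul_assoc, Polynomial.algebraMap_apply, ← map_mul]
  refine congrArg (fun z => Polynomial.C z * Polynomial.X ^ d) ?_
  rw [MvPolynomial.monomial_eq, map_mul, Finsupp.prod, map_prod]
  simp only [map_pow]
  rfl

/-- A homogeneous basis with the expected number of elements in each weight. -/
structure HilbBasis (m : ℕ) where
  ι : Type
  β : Module.Basis ι ℤ (URing ℤ m)
  deg : ι → ℕ
  mem : ∀ i, β i ∈ upiece ℤ m (deg i)
  F : ℕ → Finset ι
  hF : ∀ d i, i ∈ F d ↔ deg i = d
  card : ∀ d, ((F d).card : ℤ) = PowerSeries.coeff d (uhilb m)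

theorem uhilb_succ (hm : 2 ≤ m) : uhilb (m + 1) =
    uhilb m * ((PowerSeries.mk fun _ => (1 : ℤ)) *
      (1 + PowerSeries.C ((m : ℤ) + 1) * PowerSeries.X + PowerSeries.X ^ 2)) := by
  rw [uhilb, uhilb, Finset.prod_Icc_succ_top (by omega : 3 ≤ m + 1)]
  push_cast
  ring

def cvarEquiv (m : ℕ) : CVar m ≃ Option (Option (Fin m)) where
  toFun | .x2 => none | .x3 => some none | .xi i => some (some i)
  invFun | none => .x2 | some none => .x3 | some (some i) => .xi i
  left_inv y := by cases y <;> rfl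
  right_inv y := by rcases y with _ | _ | _ <;> rfl

instance : Fintype (CVar m) := Fintype.ofEquiv _ (cvarEquiv m).symm

theorem card_cvar : Fintype.card (CVar m) = m + 2 := by
  rw [Fintype.card_congr (cvarEquiv m), Fintype.card_option, Fintype.card_option, Fintype.card_fin]

/-- The monomials of a given degree. -/
def levSet (m : ℕ) : ℕ → Finset (Option (ℕ ⊕ (CVar m × ℕ))) := by
  classical
  exact fun q => match q with
  | 0 => {none}
  | 1 => Finset.univ.image fun y => some (Sum.inr (y, 0))
  | k + 2 => insert (some (Sum.inl k)) (Finset.univ.image fun y => some (Sum.inr (y, k + 1)))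

theorem mem_levSet {q : ℕ} {b : Option (ℕ ⊕ (CVar m × ℕ))} : b ∈ levSet m q ↔ lev b = q := by
  classical
  match q, b with
  | 0, none => simp [levSet, lev]
  | 0, some (Sum.inl k) => simp [levSet, lev]
  | 0, some (Sum.inr (y, k)) => simp [levSet, lev]
  | 1, none => simp [levSet, lev]
  | 1, some (Sum.inl k) => simp [levSet, lev]
  | 1, some (Sum.inr (y, k)) => simp [levSet, lev, eq_comm]
  | q + 2, none => simp [levSet, lev]
  | q + 2, some (Sum.inl k) => simp [levSet, lev]
  | q + 2, some (Sum.inr (y, k)) => simp [levSet, lev, eq_comm]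

theorem card_levSet (q : ℕ) : ((levSet m q).card : ℤ) =
    PowerSeries.coeff q ((PowerSeries.mk fun _ => (1 : ℤ)) *
      (1 + PowerSeries.C ((m : ℤ) + 1) * PowerSeries.X + PowerSeries.X ^ 2)) := by
  classical
  have hc : PowerSeries.coeff q ((PowerSeries.mk fun _ => (1 : ℤ)) *
      (1 + PowerSeries.C ((m : ℤ) + 1) * PowerSeries.X + PowerSeries.X ^ 2)) =
      1 + (if 1 ≤ q then (m : ℤ) + 1 else 0) + (if 2 ≤ q then 1 else 0) := by
    generalize ((m : ℤ) + 1) = r
    simp only [mul_add, mul_one, map_add, PowerSeries.coeff_mk, PowerSeries.coeff_mul_X_pow']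
    rw [mul_left_comm, PowerSeries.coeff_C_mul, ← pow_one PowerSeries.X, PowerSeries.coeff_mul_X_pow',
      PowerSeries.coeff_mk]
    simp
  rw [hc]
  have hinj : ∀ k : ℕ, Function.Injective fun y : CVar m => (some (Sum.inr (y, k)) : Option (ℕ ⊕ (CVar m × ℕ))) :=
    fun k a b h => by simpa using h
  match q with
  | 0 => simp [levSet]
  | 1 =>
    simp only [levSet, Finset.card_image_of_injective _ (hinj 0), Finset.card_univ, card_cvar]
    simp; ring
  | k + 2 =>
    simp only [levSet]
    rw [Finset.card_insert_of_notMem (by simp), Finset.card_image_of_injective _ (hinj (k + 1)), Finset.card_univ,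
      card_cvar]
    simp; ring

theorem nonempty_succ (hm : 2 ≤ m) (H : HilbBasis m) : Nonempty (HilbBasis (m + 1)) := by
  classical
  haveI : Nonempty (Fin m) := ⟨⟨0, by omega⟩⟩
  let bc : Module.Basis (Option (ℕ ⊕ (CVar m × ℕ))) (URing ℤ m) (Curve ℤ m) :=
    Module.Basis.mk (linearIndependent_cmon rels_ugen) (span_cmon _).ge
  let β := (H.β.smulTower bc).map (curveEquiv (R := ℤ) (m := m)).toAddEquiv.toIntLinearEquiv
  let F : ℕ → Finset (H.ι × Option (ℕ ⊕ (CVar m × ℕ))) := fun d =>
    (Finset.HasAntidiagonal.antidiagonal d).biUnion fun pq => H.F pq.1 ×ˢ levSet m pq.2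
  refine ⟨⟨_, β, fun x => H.deg x.1 + lev x.2, ?_, F, ?_, ?_⟩⟩
  · rintro ⟨i, b⟩
    show toSucc ((H.β.smulTower bc) (i, b)) ∈ _
    rw [Module.Basis.smulTower_apply, Module.Basis.mk_apply, csmul, map_mul, toSucc_algebraMap]
    exact upiece_mul (uincl_mem (H.mem i)) (toSucc_cmon_mem b)
  · intro d x
    simp only [F, Finset.mem_biUnion, Finset.HasAntidiagonal.mem_antidiagonal, Finset.mem_product, H.hF, mem_levSet]
    exact ⟨fun ⟨pq, h, h1, h2⟩ => by omega, fun h => ⟨(H.deg x.1, lev x.2), h, rfl, rfl⟩⟩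
  · intro d
    rw [uhilb_succ hm, PowerSeries.coeff_mul, Finset.card_biUnion]
    · push_cast
      exact Finset.sum_congr rfl fun pq _ => by rw [Finset.card_product, Nat.cast_mul, H.card, card_levSet]
    · intro p _ q _ hne
      refine Finset.disjoint_left.2 fun x h1 h2 => hne ?_
      simp only [Finset.mem_product, H.hF, mem_levSet] at h1 h2
      exact Prod.ext (by omega) (by omega)

theorem nonempty_two : Nonempty (HilbBasis 2) := by
  classical
  let g : Fin 6 → UGen 2 := ![.a, .ci 0, .cbi 0, .ci 1, .cbi 1, .cij 0 1 Fin.zero_ne_one]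
  have hg : ∀ i, uwt (g i) = 1 := fun i => by fin_cases i <;> rfl
  let φ : MvPolynomial (Fin 6) ℤ →ₐ[ℤ] URing ℤ 2 := aeval fun i => ugen ℤ 2 (g i)
  have hφ : Function.Bijective φ := by
    have h := Groth.Agent.S18247.result
    convert h using 2
    refine MvPolynomial.algHom_ext fun i => ?_
    fin_cases i <;> simp [φ, g]
  let β := (MvPolynomial.basisMonomials (Fin 6) ℤ).map (AlgEquiv.ofBijective φ hφ).toLinearEquiv
  refine ⟨⟨_, β, fun s => Finset.univ.sum (fun i => s i), ?_, fun d => Finset.finsuppAntidiag Finset.univ d, ?_, ?_⟩⟩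
  · intro s
    show φ ((MvPolynomial.basisMonomials (Fin 6) ℤ) s) ∈ _
    rw [MvPolynomial.coe_basisMonomials]
    refine mem_upiece.2 ⟨rename g (monomial s 1), rename_mem g (fun _ => 1) uwt hg ?_, ?_⟩
    · refine isWeightedHomogeneous_monomial _ _ _ ?_
      rw [Finsupp.weight_apply]
      simp [Finsupp.sum_fintype]
    · show ((Ideal.Quotient.mkₐ ℤ _).comp (rename g)) _ = φ _
      congr 1
      exact MvPolynomial.algHom_ext fun i => by simp [φ, ugen]
  · intro d s
    simp [Finset.mem_finsuppAntidiag]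
  · intro d
    have h : (PowerSeries.mk fun _ => (1 : ℤ)) ^ (2 + 4) = ∏ _i : Fin 6, PowerSeries.mk fun _ => (1 : ℤ) := by simp
    rw [uhilb, h, show Finset.Icc 3 2 = (∅ : Finset ℕ) from rfl, Finset.prod_empty, mul_one, PowerSeries.coeff_prod]
    simp

theorem nonempty_hilbBasis (hm : 2 ≤ m) : Nonempty (HilbBasis m) := by
  induction m, hm using Nat.le_induction with
  | base => exact nonempty_two
  | succ n hn ih => exact nonempty_succ hn ih.some

theorem coeff_grad_basis (H : HilbBasis m) (d : ℕ) (i : H.ι) :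
    (grad (H.β i)).coeff d = if H.deg i = d then H.β i else 0 := by
  rw [grad_of_mem (H.mem i), Polynomial.coeff_C_mul_X_pow]
  split_ifs <;> first | rfl | omega

/-- The projection to the weight-`d` piece. -/
def proj (d : ℕ) : URing ℤ m →ₗ[ℤ] URing ℤ m :=
  ((Polynomial.lcoeff (URing ℤ m) d).toAddMonoidHom.comp grad.toRingHom.toAddMonoidHom).toIntLinearMap

theorem proj_apply (d : ℕ) (x : URing ℤ m) : proj d x = (grad x).coeff d := rfl

theorem proj_of_mem {d e : ℕ} {x : URing ℤ m} (hx : x ∈ upiece ℤ m e) : proj d x = if e = d then x else 0 := by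
  rw [proj_apply, grad_of_mem hx, Polynomial.coeff_C_mul_X_pow]
  split_ifs <;> first | rfl | omega

theorem upiece_eq_span (H : HilbBasis m) (d : ℕ) :
    upiece ℤ m d = Submodule.span ℤ (Set.range fun i : {i // i ∈ H.F d} => H.β i.1) := by
  refine le_antisymm (fun x hx => ?_) (Submodule.span_le.2 ?_)
  · have h : proj d x = x := by rw [proj_of_mem hx, if_pos rfl]
    rw [← h, ← H.β.linearCombination_repr x, Finsupp.linearCombination_apply, map_finsuppSum]
    refine Submodule.sum_mem _ fun i _ => ?_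
    show proj d ((H.β.repr x i) • H.β i) ∈ _
    rw [map_smul]
    refine Submodule.smul_mem _ _ ?_
    rw [proj_of_mem (H.mem i)]
    split_ifs with h'
    · exact Submodule.subset_span ⟨⟨i, (H.hF d i).2 h'⟩, rfl⟩
    · exact zero_mem _
  · rintro _ ⟨⟨i, hi⟩, rfl⟩
    exact (H.hF d i).1 hi ▸ H.mem i

theorem finrank_upiece (H : HilbBasis m) (d : ℕ) : Module.finrank ℤ (upiece ℤ m d) = (H.F d).card := by
  rw [upiece_eq_span H d,
    finrank_span_eq_card (b := fun i : {i // i ∈ H.F d} => H.β i.1)
      (H.β.linearIndependent.comp _ Subtype.coe_injective), Fintype.card_coe]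

theorem isInternal_upiece (H : HilbBasis m) : DirectSum.IsInternal (upiece ℤ m) := by
  rw [DirectSum.isInternal_submodule_iff_iSupIndep_and_iSup_eq_top]
  constructor
  · intro d
    refine Submodule.disjoint_def.2 fun x hx hx' => ?_
    have h : (⨆ (e) (_ : e ≠ d), upiece ℤ m e) ≤ LinearMap.ker (proj d) := by
      refine iSup₂_le fun e he y hy => ?_
      rw [LinearMap.mem_ker, proj_of_mem hy, if_neg he]
    have h0 : proj d x = 0 := h hx'
    rwa [proj_of_mem hx, if_pos rfl] at h0
  · refine top_le_iff.1 (H.β.span_eq ▸ Submodule.span_le.2 ?_)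
    rintro _ ⟨i, rfl⟩
    exact le_iSup (upiece ℤ m) (H.deg i) (H.mem i)

end UCurveLib
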