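import Groth.Agent.UCurveLib.Span
import Groth.Prelude.Def_W4c5m1nsnscurvesI

/-!
# The curve over `U_n` is `U_{n+1}`
-/

set_option autoImplicit false

universe u

open W4c5m1nsnscurves

noncomputable section

namespace UCurveLib

variable {L : Type u} [CommRing L] {m : ℕ}

/-- The coordinates of the last point, as values of the curve variables. -/
def lastPt (w : UGen (m + 1) → L) : CVar m → L
  | .x2 => w (.ci (Fin.last m))
  | .x3 => w .a + w (.ci (Fin.last m)) + w (.cbi (Fin.last m))
  | .xi i => w (.cij i.castSucc (Fin.last m) (Fin.castSucc_lt_last i).ne)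

theorem Rels.restrict {w : UGen (m + 1) → L} (hw : Rels w) : Rels (w ∘ UGen.castSucc) :=
  ⟨fun _ _ _ => hw.lin _ _ _, fun _ _ _ => hw.q1 _ _ _, fun _ _ _ => hw.q2 _ _ _, fun _ _ _ _ _ _ => hw.q3 _ _ _ _ _ _⟩

theorem Rels.pt_lastPt {w : UGen (m + 1) → L} (hw : Rels w) : Pt (w ∘ UGen.castSucc) (lastPt w) := by
  refine ⟨fun i => ?_, fun i => ?_, fun i j h => ?_⟩
  · have h0 : i.castSucc ≠ Fin.last m := (Fin.castSucc_lt_last i).ne
    have := hw.lin _ _ h0
    have := hw.q1 _ _ h0
    simp only [lastPt, Function.comp_apply, UGen.castSucc]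
    grind
  · have h0 : i.castSucc ≠ Fin.last m := (Fin.castSucc_lt_last i).ne
    have := hw.lin _ _ h0
    have := hw.q1 _ _ h0
    have := hw.q2 _ _ h0
    simp only [lastPt, Function.comp_apply, UGen.castSucc]
    grind
  · have := hw.q3 i.castSucc j.castSucc (Fin.last m) (fun e => h (Fin.castSucc_injective _ e))
      (Fin.castSucc_lt_last j).ne (Fin.castSucc_lt_last i).ne
    simp only [lastPt, Function.comp_apply, UGen.castSucc]
    linear_combination -this

/-- Values on `UGen (m+1)` from values on `UGen m` and a point of the curve. -/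
def extend (v : UGen m → L) (x : CVar m → L) : UGen (m + 1) → L
  | .a => v .a
  | .c => v .c
  | .cb => v .cb
  | .ci i => Fin.lastCases (x .x2) (fun i => v (.ci i)) i
  | .cbi i => Fin.lastCases (x .x3 - v .a - x .x2) (fun i => v (.cbi i)) i
  | .cij i j _ => Fin.lastCases
      (Fin.lastCases 0 (fun j => v (.ci j) + v (.cbi j) + x .x3 - x (.xi j)) j)
      (fun i => Fin.lastCases (x (.xi i)) (fun j => if h : i ≠ j then v (.cij i j h) else 0) j) i

theorem extend_rels {v : UGen m → L} {x : CVar m → L} (hv : Rels v) (hx : Pt v x) : Rels (extend v x) := by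
  refine ⟨fun i j h => ?_, fun i j h => ?_, fun i j h => ?_, fun i j k hij hjk hik => ?_⟩
  all_goals induction i using Fin.lastCases with
    | last => ?_
    | cast i => ?_
  all_goals induction j using Fin.lastCases with
    | last => ?_
    | cast j => ?_
  all_goals first | exact absurd rfl h | exact absurd rfl hij | skip
  all_goals try (induction k using Fin.lastCases with
    | last => ?_
    | cast k => ?_)
  all_goals first | exact absurd rfl hjk | exact absurd rfl hik | skip
  all_goals simp only [extend, Fin.lastCases_last, Fin.lastCases_castSucc]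
  · ring
  · ring
  · rw [dif_pos (fun e => h (congrArg Fin.castSucc e)), dif_pos (fun e => h (congrArg Fin.castSucc e.symm))]
    exact hv.lin i j _
  · linear_combination hx.r2 j
  · linear_combination hx.r2 i
  · rw [dif_pos (fun e => h (congrArg Fin.castSucc e)), dif_pos (fun e => h (congrArg Fin.castSucc e.symm))]
    exact hv.q1 i j _
  · have := hx.r2 j
    have := hx.r3 j
    grind
  · have := hx.r2 i
    have := hx.r3 i
    grind
  · rw [dif_pos (fun e => h (congrArg Fin.castSucc e)), dif_pos (fun e => h (congrArg Fin.castSucc e.symm))]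
    exact hv.q2 i j _
  · have h' : j ≠ k := fun e => hjk (congrArg Fin.castSucc e)
    rw [dif_pos h']
    have := hx.r4 j k h'
    have := hx.r3 j
    have := hv.lin j k h'
    have := hv.q1 j k h'
    have := hv.q2 j k h'
    grind
  · have h' : i ≠ k := fun e => hik (congrArg Fin.castSucc e)
    rw [dif_pos h']
    have := hx.r4 i k h'
    have := hx.r3 i
    have := hv.lin i k h'
    have := hv.q1 i k h'
    have := hv.q2 i k h'
    grind
  · have h' : i ≠ j := fun e => hij (congrArg Fin.castSucc e)
    rw [dif_pos h', dif_pos h'.symm]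
    linear_combination -(hx.r4 i j h')
  · rw [dif_pos (fun e => hij (congrArg Fin.castSucc e)), dif_pos (fun e => hjk (congrArg Fin.castSucc e)),
      dif_pos (fun e => hij (congrArg Fin.castSucc e.symm)), dif_pos (fun e => hik (congrArg Fin.castSucc e))]
    exact hv.q3 i j k _ _ _

theorem extend_lastPt {w : UGen (m + 1) → L} (hw : Rels w) : extend (w ∘ UGen.castSucc) (lastPt w) = w := by
  funext g
  cases g with
  | a => rfl
  | c => rfl
  | cb => rfl
  | ci i => induction i using Fin.lastCases <;> simp [extend, lastPt, UGen.castSucc]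
  | cbi i =>
    induction i using Fin.lastCases with
    | last =>
      simp only [extend, lastPt, Fin.lastCases_last, Function.comp_apply, UGen.castSucc]
      ring
    | cast i => simp [extend, UGen.castSucc]
  | cij i j h =>
    induction i using Fin.lastCases with
    | last =>
      induction j using Fin.lastCases with
      | last => exact absurd rfl h
      | cast j =>
        have := hw.lin j.castSucc (Fin.last m) (Fin.castSucc_lt_last j).ne
        simp only [extend, lastPt, Fin.lastCases_last, Fin.lastCases_castSucc, Function.comp_apply, UGen.castSucc]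
        linear_combination -this
    | cast i =>
      induction j using Fin.lastCases with
      | last => simp [extend, lastPt]
      | cast j =>
        simp only [extend, Fin.lastCases_castSucc]
        rw [dif_pos (fun e => h (congrArg Fin.castSucc e))]
        rfl

variable {R : Type u} [CommRing R]

theorem rels_ugen : Rels (ugen R m) := by
  refine ⟨fun i j h => ?_, fun i j h => ?_, fun i j h => ?_, fun i j k h1 h2 h3 => ?_⟩
  · have := Ideal.Quotient.eq_zero_iff_mem.2 (Ideal.subset_span (s := URel R m) (Or.inl (Or.inl (Or.inl ⟨⟨(i, j), h⟩, rfl⟩))))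
    simp only [map_sub, map_add, map_mul] at this
    simp only [ugen]
    linear_combination this
  · have := Ideal.Quotient.eq_zero_iff_mem.2 (Ideal.subset_span (s := URel R m) (Or.inl (Or.inl (Or.inr ⟨⟨(i, j), h⟩, rfl⟩))))
    simp only [map_sub, map_add, map_mul] at this
    simp only [ugen]
    linear_combination -this
  · have := Ideal.Quotient.eq_zero_iff_mem.2 (Ideal.subset_span (s := URel R m) (Or.inl (Or.inr ⟨⟨(i, j), h⟩, rfl⟩)))
    simp only [map_sub, map_add, map_mul] at this
    simp only [ugen]
    linear_combination -this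
  · have := Ideal.Quotient.eq_zero_iff_mem.2 (Ideal.subset_span (s := URel R m) (Or.inr ⟨⟨(i, j, k), h1, h2, h3⟩, rfl⟩))
    simp only [map_sub, map_add, map_mul] at this
    simp only [ugen]
    linear_combination this

theorem uincl_ugen (g : UGen m) : uincl R m (ugen R m g) = ugen R (m + 1) g.castSucc := by
  show Ideal.Quotient.mk _ (MvPolynomial.rename UGen.castSucc (MvPolynomial.X g)) = _
  rw [MvPolynomial.rename_X]; rfl

/-- The curve algebra over `U_n`. -/
abbrev Curve (R : Type u) [CommRing R] (m : ℕ) : Type u := CurveAlg (URing R m) m (ugen R m)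

/-- The map to `U_{n+1}`. -/
def toSucc : Curve R m →+* URing R (m + 1) :=
  Ideal.Quotient.lift _ (MvPolynomial.eval₂Hom (uincl R m).toRingHom (lastPt (ugen R (m + 1)))) (by
    intro p hp
    refine (Ideal.span_le (I := RingHom.ker _)).2 ?_ hp
    have hpt := (rels_ugen (R := R) (m := m + 1)).pt_lastPt
    rintro _ ((⟨i, rfl⟩ | ⟨i, rfl⟩) | ⟨⟨⟨i, j⟩, h⟩, rfl⟩) <;>
      simp only [SetLike.mem_coe, RingHom.mem_ker, map_sub, map_add, map_mul, MvPolynomial.eval₂Hom_X',
        MvPolynomial.eval₂Hom_C, AlgHom.toRingHom_eq_coe, RingHom.coe_coe, uincl_ugen]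
    · have := hpt.r2 i
      simp only [Function.comp_apply] at this
      linear_combination this
    · have := hpt.r3 i
      simp only [Function.comp_apply] at this
      linear_combination this
    · have := hpt.r4 i j h
      simp only [Function.comp_apply] at this
      linear_combination this)

/-- The values of the generators of `U_{n+1}` in the curve algebra over `U_n`. -/
def backVal : UGen (m + 1) → Curve R m := extend (cv (ugen R m)) (cx (ugen R m))

theorem rels_backVal : Rels (backVal (R := R) (m := m)) := by
  refine extend_rels ?_ (pt_cx _)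
  have h := rels_ugen (R := R) (m := m)
  exact ⟨fun i j e => by simpa only [map_add] using congrArg (algebraMap _ (Curve R m)) (h.lin i j e),
    fun i j e => by simpa only [map_add, map_mul, map_sub] using congrArg (algebraMap _ (Curve R m)) (h.q1 i j e),
    fun i j e => by simpa only [map_add, map_mul, map_sub] using congrArg (algebraMap _ (Curve R m)) (h.q2 i j e),
    fun i j k a b c => by simpa only [map_add, map_mul, map_sub] using congrArg (algebraMap _ (Curve R m)) (h.q3 i j k a b c)⟩

/-- The map from `U_{n+1}`. -/
def ofSucc : URing R (m + 1) →+* Curve R m :=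
  Ideal.Quotient.lift _ (MvPolynomial.eval₂Hom ((algebraMap (URing R m) (Curve R m)).comp (algebraMap R (URing R m)))
    backVal) (by
    intro p hp
    refine (Ideal.span_le (I := RingHom.ker _)).2 ?_ hp
    have h := rels_backVal (R := R) (m := m)
    rintro _ (((⟨⟨⟨i, j⟩, e⟩, rfl⟩ | ⟨⟨⟨i, j⟩, e⟩, rfl⟩) | ⟨⟨⟨i, j⟩, e⟩, rfl⟩) | ⟨⟨⟨i, j, k⟩, a, b, c⟩, rfl⟩) <;>
      simp only [SetLike.mem_coe, RingHom.mem_ker, map_sub, map_add, map_mul, MvPolynomial.eval₂Hom_X']
    · linear_combination h.lin i j e
    · linear_combination -(h.q1 i j e)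
    · linear_combination -(h.q2 i j e)
    · linear_combination h.q3 i j k a b c)

theorem toSucc_mk_X (y : CVar m) :
    toSucc (Ideal.Quotient.mk _ (MvPolynomial.X y) : Curve R m) = lastPt (ugen R (m + 1)) y := by
  show MvPolynomial.eval₂Hom _ _ (MvPolynomial.X y) = _
  rw [MvPolynomial.eval₂Hom_X']

theorem toSucc_algebraMap (r : URing R m) : toSucc (algebraMap (URing R m) (Curve R m) r) = uincl R m r := by
  show MvPolynomial.eval₂Hom _ _ (MvPolynomial.C r) = _
  rw [MvPolynomial.eval₂Hom_C]; rfl

theorem ofSucc_ugen (g : UGen (m + 1)) : ofSucc (ugen R (m + 1) g) = backVal g := by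
  show MvPolynomial.eval₂Hom _ _ (MvPolynomial.X g) = _
  rw [MvPolynomial.eval₂Hom_X']

theorem ofSucc_uincl (r : URing R m) : ofSucc (uincl R m r) = algebraMap (URing R m) (Curve R m) r := by
  refine RingHom.congr_fun (f := ofSucc.comp (uincl R m).toRingHom) (Ideal.Quotient.ringHom_ext
    (MvPolynomial.ringHom_ext (fun s => ?_) fun g => ?_)) r
  · show ofSucc (uincl R m (algebraMap R (URing R m) s)) = algebraMap (URing R m) (Curve R m) (algebraMap R (URing R m) s)
    rw [AlgHom.commutes]
    show MvPolynomial.eval₂Hom _ _ (MvPolynomial.C s) = _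
    rw [MvPolynomial.eval₂Hom_C]; rfl
  · show ofSucc (uincl R m (ugen R m g)) = algebraMap (URing R m) (Curve R m) (ugen R m g)
    rw [uincl_ugen, ofSucc_ugen]
    cases g <;> simp [backVal, extend, UGen.castSucc, cv]
    rename_i i j h
    rw [dif_neg h]

/-- `O(C_n) ≅ O(U_{n+1})`. -/
def curveEquiv : Curve R m ≃+* URing R (m + 1) :=
  RingEquiv.ofRingHom toSucc ofSucc
    (by
      refine Ideal.Quotient.ringHom_ext (MvPolynomial.ringHom_ext (fun s => ?_) fun g => ?_)
      · show toSucc (ofSucc (algebraMap R (URing R (m + 1)) s)) = algebraMap R (URing R (m + 1)) s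
        rw [← AlgHom.commutes (uincl R m), ofSucc_uincl, toSucc_algebraMap]
      · show toSucc (ofSucc (ugen R (m + 1) g)) = ugen R (m + 1) g
        rw [ofSucc_ugen]
        conv_rhs => rw [← extend_lastPt (rels_ugen (R := R) (m := m + 1))]
        cases g with
        | a => simp [backVal, extend, cv, toSucc_algebraMap, uincl_ugen, UGen.castSucc]
        | c => simp [backVal, extend, cv, toSucc_algebraMap, uincl_ugen, UGen.castSucc]
        | cb => simp [backVal, extend, cv, toSucc_algebraMap, uincl_ugen, UGen.castSucc]
        | ci i => induction i using Fin.lastCases <;>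
            simp [backVal, extend, cv, cx, toSucc_algebraMap, toSucc_mk_X, uincl_ugen, UGen.castSucc]
        | cbi i => induction i using Fin.lastCases <;>
            simp [backVal, extend, cv, cx, toSucc_algebraMap, toSucc_mk_X, uincl_ugen, UGen.castSucc, lastPt]
        | cij i j h =>
          induction i using Fin.lastCases <;> induction j using Fin.lastCases <;>
            simp [backVal, extend, cv, cx, toSucc_algebraMap, toSucc_mk_X, uincl_ugen, UGen.castSucc, lastPt]
          split_ifs <;> simp [toSucc_algebraMap, uincl_ugen, UGen.castSucc])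
    (by
      refine Ideal.Quotient.ringHom_ext (MvPolynomial.ringHom_ext (fun s => ?_) fun y => ?_)
      · show ofSucc (toSucc (algebraMap (URing R m) (Curve R m) s)) = algebraMap (URing R m) (Curve R m) s
        rw [toSucc_algebraMap, ofSucc_uincl]
      · show ofSucc (toSucc (cx (ugen R m) y)) = cx (ugen R m) y
        rw [cx, toSucc_mk_X]
        cases y <;> simp [lastPt, ofSucc_ugen, backVal, extend, cv, cx])

end UCurveLib
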