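import Groth.Agent.UCurveLib.Rel
import Mathlib.RingTheory.LaurentSeries

/-!
# Linear independence of the monomials of the curve algebra, by expansion at the marked points
-/

set_option autoImplicit false

universe u

open W4c5m1nsnscurves

noncomputable section

namespace UCurveLib

variable {R : Type u} [CommRing R] {m : ℕ}

local notation "P" => PowerSeries R
local notation "L" => LaurentSeries R
local notation "t" => (PowerSeries.X : PowerSeries R)

/-- Fixed points of `q + t·Φ`. -/
theorem exists_fixed {ι : Type} (Φ : (ι → P) → ι → P) (q : ι → P)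
    (hΦ : ∀ (I : Ideal P) x y, (∀ i, Ideal.Quotient.mk I (x i) = Ideal.Quotient.mk I (y i)) →
      ∀ i, Ideal.Quotient.mk I (Φ x i) = Ideal.Quotient.mk I (Φ y i)) :
    ∃ x : ι → P, ∀ i, x i = q i + t * Φ x i := by
  have hc : ∀ (n : ℕ) x y, (∀ i, t ^ n ∣ x i - y i) → ∀ i, t ^ n ∣ Φ x i - Φ y i := fun n x y h i => by
    rw [← Ideal.mem_span_singleton, ← Ideal.Quotient.eq]
    exact hΦ _ x y (fun j => Ideal.Quotient.eq.2 (Ideal.mem_span_singleton.2 (h j))) i
  let s : ℕ → ι → P := fun n => (fun x i => q i + t * Φ x i)^[n] q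
  have hs : ∀ n i, s (n + 1) i = q i + t * Φ (s n) i := fun n i => by
    simp only [s, Function.iterate_succ_apply']
  have h1 : ∀ n i, t ^ n ∣ s (n + 1) i - s n i := by
    intro n
    induction n with
    | zero => intro i; simp
    | succ n ih =>
      intro i
      rw [hs (n + 1), hs n, add_sub_add_left_eq_sub, ← mul_sub, pow_succ']
      exact mul_dvd_mul_left t (hc n _ _ ih i)
  have h2 : ∀ n k i, t ^ n ∣ s (n + k) i - s n i := by
    intro n k i
    induction k with
    | zero => simp
    | succ k ih =>
      have := dvd_add ((pow_dvd_pow t (Nat.le_add_right n k)).trans (h1 (n + k) i)) ih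
      rwa [sub_add_sub_cancel] at this
  let x : ι → P := fun i => PowerSeries.mk fun k => PowerSeries.coeff k (s (k + 1) i)
  have h3 : ∀ n i, t ^ n ∣ x i - s n i := by
    intro n i
    rw [PowerSeries.X_pow_dvd_iff]
    intro k hk
    have := (PowerSeries.X_pow_dvd_iff.1 (h2 (k + 1) (n - (k + 1)) i)) k (Nat.lt_succ_self k)
    rw [Nat.add_sub_cancel' hk, map_sub, sub_eq_zero] at this
    simp [x, this]
  refine ⟨x, fun i => PowerSeries.ext fun n => ?_⟩
  rw [← sub_eq_zero, ← map_sub]
  have h4 : t ^ (n + 1) ∣ x i - (q i + t * Φ x i) := by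
    have e : x i - (q i + t * Φ x i) = (x i - s (n + 1) i) + t * (Φ (s n) i - Φ x i) := by rw [hs]; ring
    rw [e]
    refine dvd_add (h3 _ i) ?_
    rw [pow_succ']
    exact mul_dvd_mul_left t (hc n _ _ (fun j => by rw [← neg_sub, dvd_neg]; exact h3 n j) i)
  exact PowerSeries.X_pow_dvd_iff.1 h4 n (Nat.lt_succ_self n)

theorem exists_fixed₁ (Φ : P → P) (q : P) (hΦ : ∀ (I : Ideal P) x y,
    Ideal.Quotient.mk I x = Ideal.Quotient.mk I y → Ideal.Quotient.mk I (Φ x) = Ideal.Quotient.mk I (Φ y)) :
    ∃ x : P, x = q + t * Φ x := by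
  obtain ⟨x, hx⟩ := exists_fixed (ι := Unit) (fun x _ => Φ (x ())) (fun _ => q) (fun I x y h _ => hΦ I _ _ (h ()))
  exact ⟨x (), hx ()⟩

/-- Power series as Laurent series. -/
abbrev ps : P →+* L := HahnSeries.ofPowerSeries ℤ R

/-- `1/t`. -/
def T : L := HahnSeries.single (-1 : ℤ) (1 : R)

theorem ps_injective : Function.Injective (ps : P → L) := HahnSeries.ofPowerSeries_injective

theorem T_mul_t : (T : L) * ps t = 1 := by
  rw [T, ps, HahnSeries.ofPowerSeries_X, HahnSeries.single_mul_single]
  simp

theorem algebraMap_eq (r : R) : algebraMap R L r = ps (PowerSeries.C r) := by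
  show ps (algebraMap R P r) = _
  rfl

theorem isUnit_ps {g : P} (hg : PowerSeries.constantCoeff g = 1) : IsUnit (ps g) :=
  (PowerSeries.isUnit_iff_constantCoeff.2 (hg ▸ isUnit_one)).map _

theorem isUnit_T : IsUnit (T : L) := IsUnit.of_mul_eq_one (ps t) T_mul_t

/-- `c ↦ c` in Laurent series. -/
abbrev cst (v : UGen m → R) : UGen m → L := fun g => algebraMap R L (v g)

theorem rels_cst {v : UGen m → R} (hv : Rels v) : Rels (cst v) where
  lin i j h := by simpa only [map_add] using congrArg (algebraMap R L) (hv.lin i j h)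
  q1 i j h := by simpa only [map_add, map_mul, map_sub] using congrArg (algebraMap R L) (hv.q1 i j h)
  q2 i j h := by simpa only [map_add, map_mul, map_sub] using congrArg (algebraMap R L) (hv.q2 i j h)
  q3 i j k h1 h2 h3 := by
    simpa only [map_add, map_mul, map_sub] using congrArg (algebraMap R L) (hv.q3 i j k h1 h2 h3)

theorem dd_cst (v : UGen m → R) (i : Fin m) : dd (cst v) i = ps (PowerSeries.C (dd v i)) := by
  rw [← algebraMap_eq]
  simp only [dd, map_add, map_mul, map_sub]

/-- `1/(1 - r t)`. -/
def geo (r : R) : P := PowerSeries.invOfUnit (1 - PowerSeries.C r * t) 1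

theorem geo_spec (r : R) : ps (1 - PowerSeries.C r * t) * ps (geo r) = 1 := by
  rw [← map_mul, geo, PowerSeries.mul_invOfUnit _ _ (by simp), map_one]

theorem T_sub (r : R) : T - algebraMap R L r = T * ps (1 - PowerSeries.C r * t) := by
  rw [map_sub, map_one, map_mul, algebraMap_eq, mul_sub, mul_one, mul_left_comm, T_mul_t, mul_one]

theorem isUnit_T_sub (r : R) : IsUnit (T - algebraMap R L r) := by
  rw [T_sub]
  exact isUnit_T.mul (IsUnit.of_mul_eq_one _ (geo_spec r))

theorem mul_geo (r : R) (g : P) : (T - algebraMap R L r) * ps (g * geo r) = T * ps g := by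
  rw [T_sub, map_mul ps g (geo r)]
  linear_combination (T * ps g) * geo_spec r

theorem T_mul_ps_t_mul (g : P) : T * ps (t * g) = ps g := by
  rw [map_mul, ← mul_assoc, T_mul_t, one_mul]

/-- Expansion at `p₂`, where `x₂ = 1/t`. -/
theorem exists_p2 {v : UGen m → R} (hv : Rels v) : ∃ G : CVar m → P, Pt (cst v) (fun y => T * ps (G y)) ∧
    PowerSeries.constantCoeff (G .x2) = 1 ∧ PowerSeries.constantCoeff (G .x3) = 0 ∧
    ∀ i, PowerSeries.constantCoeff (G (.xi i)) = 0 := by
  rcases isEmpty_or_nonempty (Fin m) with h0 | ⟨⟨i₀⟩⟩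
  · exact ⟨fun y => match y with | .x2 => 1 | .x3 => 0 | .xi i => 0,
      ⟨fun i => isEmptyElim i, fun i => isEmptyElim i, fun i => isEmptyElim i⟩, by simp, by simp, fun i => isEmptyElim i⟩
  let cc : R → P := fun r => PowerSeries.C r
  obtain ⟨y, hy⟩ := exists_fixed₁ (fun y => y * y - cc (v .a) * y - cc (v .cb - v .c) - cc (v .c) * t * y - cc (dd v i₀) * t) 0
    (fun I x y h => by simp only [map_sub, map_mul, h])
  let G : CVar m → P := fun z => match z with
    | .x2 => 1
    | .x3 => t * y
    | .xi i => t * ((y + cc (v (.cbi i)) - t * cc (v .c)) * geo (v (.ci i)))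
  refine ⟨G, ?_, by simp [G], by simp [G], fun i => by simp [G]⟩
  have hcub : ∀ i, Cubic (cst v) i (T * ps (G .x2)) (T * ps (G .x3)) := fun i => by
    refine (rels_cst hv).cubic (i := i₀) ?_
    have e := congrArg (fun z : P => T * T * ps z) hy
    simp only [zero_add, map_mul, map_sub, cc, ← algebraMap_eq] at e
    simp only [Cubic, G, T_mul_ps_t_mul, map_one, mul_one, dd_cst, cst, ← algebraMap_eq]
    linear_combination (-1 : L) * e - (T * ps y * ps y - algebraMap R L (v .a) * T * ps y -
      T * (algebraMap R L (v .cb) - algebraMap R L (v .c)) -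
      (algebraMap R L (v .c) * ps y + algebraMap R L (dd v i₀)) * (T * ps t + 1)) * (T_mul_t (R := R))
  refine pt_of_cubic₂ (rels_cst hv) _ hcub (fun i => ?_) (fun i => ?_)
  · simpa [G] using isUnit_T_sub (v (.ci i))
  · simp only [G, T_mul_ps_t_mul, map_one, mul_one, cst]
    rw [mul_geo]
    simp only [map_sub, map_add, map_mul, cc, ← algebraMap_eq]
    linear_combination (-algebraMap R L (v .c)) * (T_mul_t (R := R))

/-- Expansion at `p₃`, where `x₃ = 1/t`. -/
theorem exists_p3 {v : UGen m → R} (hv : Rels v) : ∃ G : CVar m → P, Pt (cst v) (fun y => T * ps (G y)) ∧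
    PowerSeries.constantCoeff (G .x2) = 0 ∧ PowerSeries.constantCoeff (G .x3) = 1 ∧
    ∀ i, PowerSeries.constantCoeff (G (.xi i)) = 0 := by
  rcases isEmpty_or_nonempty (Fin m) with h0 | ⟨⟨i₀⟩⟩
  · exact ⟨fun y => match y with | .x2 => 0 | .x3 => 1 | .xi i => 0,
      ⟨fun i => isEmptyElim i, fun i => isEmptyElim i, fun i => isEmptyElim i⟩, by simp, by simp, fun i => isEmptyElim i⟩
  let cc : R → P := fun r => PowerSeries.C r
  let e : Fin m → R := fun i => v .a + v (.ci i) + v (.cbi i)
  obtain ⟨y, hy⟩ := exists_fixed₁ (fun y => y * y + cc (v .a) * y + cc (v .c) + (cc (v .cb - v .c) * y + cc (dd v i₀)) * t) 0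
    (fun I x y h => by simp only [map_add, map_mul, h])
  let G : CVar m → P := fun z => match z with
    | .x2 => t * y
    | .x3 => 1
    | .xi i => t * ((y + t * cc (-(e i * v (.cbi i)) + v .cb - v .c)) * geo (e i))
  refine ⟨G, ?_, by simp [G], by simp [G], fun i => by simp [G]⟩
  have hcub : ∀ i, Cubic (cst v) i (T * ps (G .x2)) (T * ps (G .x3)) := fun i => by
    refine (rels_cst hv).cubic (i := i₀) ?_
    have e := congrArg (fun z : P => T * T * ps z) hy
    simp only [zero_add, map_mul, map_add, map_sub, cc, ← algebraMap_eq] at e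
    simp only [Cubic, G, T_mul_ps_t_mul, map_one, mul_one, dd_cst, cst, ← algebraMap_eq]
    linear_combination e + (T * ps y * ps y + algebraMap R L (v .a) * T * ps y + T * algebraMap R L (v .c) +
      ((algebraMap R L (v .cb) - algebraMap R L (v .c)) * ps y + algebraMap R L (dd v i₀)) * (T * ps t + 1)) * (T_mul_t (R := R))
  refine pt_of_cubic₃ (rels_cst hv) _ hcub (fun i => ?_) (fun i => ?_)
  · simpa [G, e, cst] using isUnit_T_sub (e i)
  · simp only [G, T_mul_ps_t_mul, map_one, mul_one, cst, ← map_add]
    rw [show v .a + v (.ci i) + v (.cbi i) = e i from rfl, mul_geo]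
    simp only [map_sub, map_add, map_mul, map_neg, cc, ← algebraMap_eq]
    linear_combination (-(algebraMap R L (e i) * algebraMap R L (v (.cbi i))) + algebraMap R L (v .cb) - algebraMap R L (v .c)) * (T_mul_t (R := R))

/-- Expansion at `p₁`, the point at infinity of `x₂` and `x₃` both. -/
theorem exists_p1 {v : UGen m → R} (hv : Rels v) : ∃ G : CVar m → P, Pt (cst v) (fun y => T * ps (G y)) ∧
    ∀ y, PowerSeries.constantCoeff (G y) = 1 := by
  rcases isEmpty_or_nonempty (Fin m) with h0 | ⟨⟨i₀⟩⟩
  · exact ⟨fun _ => 1, ⟨fun i => isEmptyElim i, fun i => isEmptyElim i, fun i => isEmptyElim i⟩, by simp⟩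
  let cc : R → P := fun r => PowerSeries.C r
  obtain ⟨y, hy⟩ := exists_fixed₁ (fun y => cc (v .cb - v .c) + cc (v .c) * (1 + cc (v .a) * t + t * y) +
      cc (dd v i₀) * t - y * (cc (v .a) + y)) 0
    (fun I x y h => by simp only [map_sub, map_add, map_mul, h])
  let G3 : P := 1 + cc (v .a) * t + t * y
  let G : CVar m → P := fun z => match z with
    | .x2 => 1
    | .x3 => G3
    | .xi i => (G3 + cc (v (.cbi i)) * t - cc (v .c) * (t * t)) * geo (v (.ci i))
  refine ⟨G, ?_, fun z => ?_⟩
  swap
  · cases z <;> simp [G, G3, geo]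
  have h3 : T * ps G3 = T + algebraMap R L (v .a) + ps y := by
    simp only [G3, map_add, map_mul, map_one, cc, ← algebraMap_eq]
    linear_combination (algebraMap R L (v .a) + ps y) * (T_mul_t (R := R))
  have hcub : ∀ i, Cubic (cst v) i (T * ps (G .x2)) (T * ps (G .x3)) := fun i => by
    refine (rels_cst hv).cubic (i := i₀) ?_
    have e := congrArg (fun z : P => T * T * ps z) hy
    simp only [zero_add, map_mul, map_add, map_sub, map_one, cc, ← algebraMap_eq] at e
    simp only [Cubic, G, h3, map_one, mul_one, dd_cst, cst, ← algebraMap_eq]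
    linear_combination e + ((algebraMap R L (v .cb) - algebraMap R L (v .c)) * T + algebraMap R L (v .c) * T +
      algebraMap R L (v .c) * (algebraMap R L (v .a) + ps y) * (T * ps t + 1) +
      algebraMap R L (dd v i₀) * (T * ps t + 1) - T * ps y * (algebraMap R L (v .a) + ps y)) * (T_mul_t (R := R))
  refine pt_of_cubic₂ (rels_cst hv) _ hcub (fun i => ?_) (fun i => ?_)
  · simpa [G] using isUnit_T_sub (v (.ci i))
  · simp only [G, map_one, mul_one, cst]
    rw [mul_left_comm, mul_geo]
    simp only [map_sub, map_add, map_mul, cc, ← algebraMap_eq]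
    linear_combination (algebraMap R L (v (.cbi i)) * T - algebraMap R L (v .c) * (T * ps t + 1)) * (T_mul_t (R := R))

/-- Expansion at `p_i`, where `x_i = 1/t`. -/
theorem exists_pi {v : UGen m → R} (hv : Rels v) (i : Fin m) : ∃ G : CVar m → P, Pt (cst v) (fun y => T * ps (G y)) ∧
    PowerSeries.constantCoeff (G .x2) = 0 ∧ PowerSeries.constantCoeff (G .x3) = 0 ∧
    PowerSeries.constantCoeff (G (.xi i)) = 1 ∧ ∀ j, i ≠ j → PowerSeries.constantCoeff (G (.xi j)) = 0 := by
  let cc : R → P := fun r => PowerSeries.C r
  let ei := v .a + v (.ci i) + v (.cbi i)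
  obtain ⟨x, hx⟩ := exists_fixed (ι := Bool)
    (fun x b => if b then x true * x false + cc (v (.cbi i)) * x true - cc (v .c)
      else x true * x false - cc (ei * v (.cbi i)) + cc (v .cb - v .c))
    (fun b => if b then cc (v (.ci i)) else cc ei)
    (fun I x y h b => by cases b <;> simp [h])
  let G : CVar m → P := fun z => match z with
    | .x2 => t * x true
    | .x3 => t * x false
    | .xi j => if h : i = j then 1
        else t * ((t * (x true * x false) + cc (v (.cij j i (Ne.symm h))) - t * cc (v .c)) * geo (v (.cij i j h)))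
  refine ⟨G, ?_, by simp [G], by simp [G], by simp [G], fun j h => by simp [G, h]⟩
  have hx2 := congrArg (fun z : P => T * ps z) (hx true)
  have hx3 := congrArg (fun z : P => T * ps z) (hx false)
  simp only [if_true, if_false, Bool.false_eq_true, map_add, map_sub, map_mul, cc, ei, ← algebraMap_eq] at hx2 hx3
  refine pt_of_chart (rels_cst hv) _ i ?_ ?_ (fun j h => ?_) (fun j h => ?_)
  · simp only [G, T_mul_ps_t_mul, dite_true, map_one, mul_one, cst]
    linear_combination hx2 + (ps (x true) * ps (x false) + algebraMap R L (v (.cbi i)) * ps (x true) - algebraMap R L (v .c)) * (T_mul_t (R := R))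
  · simp only [G, T_mul_ps_t_mul, dite_true, map_one, mul_one, cst]
    linear_combination hx3 + (ps (x true) * ps (x false) -
      (algebraMap R L (v .a) + algebraMap R L (v (.ci i)) + algebraMap R L (v (.cbi i))) * algebraMap R L (v (.cbi i)) +
      algebraMap R L (v .cb) - algebraMap R L (v .c)) * (T_mul_t (R := R))
  · simpa [G] using isUnit_T_sub (v (.cij i j h))
  · simp only [G, T_mul_ps_t_mul, dite_true, dif_neg h, map_one, mul_one, cst]
    rw [mul_geo]
    simp only [map_sub, map_add, map_mul, cc, ← algebraMap_eq]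
    linear_combination (ps (x true) * ps (x false) - algebraMap R L (v .c)) * (T_mul_t (R := R))

/-- The degree of a monomial. -/
def lev : Option (ℕ ⊕ (CVar m × ℕ)) → ℕ
  | none => 0
  | some (Sum.inl k) => k + 2
  | some (Sum.inr (_, k)) => k + 1

/-- The monomials evaluated on the values of the variables. -/
def mval {S : Type u} [CommMonoid S] (x : CVar m → S) : Option (ℕ ⊕ (CVar m × ℕ)) → S
  | none => 1
  | some (Sum.inl k) => x .x2 ^ (k + 1) * x .x3
  | some (Sum.inr (y, k)) => x y ^ (k + 1)

theorem eval_CRel {v : UGen m → R} {x : CVar m → L} (hx : Pt (cst v) x) :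
    ∀ p ∈ Ideal.span (CRel R m v), MvPolynomial.aeval x p = 0 := by
  intro p hp
  refine (Ideal.span_le (I := RingHom.ker (MvPolynomial.aeval x : MvPolynomial (CVar m) R →ₐ[R] L))).2 ?_ hp
  rintro _ ((⟨i, rfl⟩ | ⟨i, rfl⟩) | ⟨⟨⟨i, j⟩, h⟩, rfl⟩) <;>
    simp only [SetLike.mem_coe, RingHom.mem_ker, map_sub, map_add, map_mul, MvPolynomial.aeval_X, MvPolynomial.aeval_C]
  · linear_combination hx.r2 i
  · have := hx.r3 i
    simp only [cst] at this
    linear_combination this
  · linear_combination hx.r4 i j h

/-- The leading coefficient of a vanishing combination at one of the expansions. -/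
theorem lead_eq_zero {v : UGen m → R} {G : CVar m → P} (hG : Pt (cst v) (fun y => T * ps (G y)))
    (l : Option (ℕ ⊕ (CVar m × ℕ)) →₀ R) (hl : Finsupp.linearCombination R (cmon R m v) l = 0)
    (N : ℕ) (hN : ∀ b, N < lev b → l b = 0) :
    ∑ b ∈ l.support, (if lev b = N then l b * mval (fun y => PowerSeries.constantCoeff (G y)) b else 0) = 0 := by
  let φ : CurveAlg R m v →ₐ[R] L := Ideal.Quotient.liftₐ _ (MvPolynomial.aeval fun y => T * ps (G y)) (eval_CRel hG)
  have hb : ∀ b, φ (cmon R m v b) = T ^ lev b * ps (mval G b) := by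
    intro b
    match b with
    | none => simp [cmon, lev, mval]
    | some (Sum.inl k) =>
      show MvPolynomial.aeval _ (_ : MvPolynomial (CVar m) R) = _
      simp only [lev, mval, map_mul, map_pow, MvPolynomial.aeval_X]
      ring
    | some (Sum.inr (y, k)) =>
      show MvPolynomial.aeval _ (_ : MvPolynomial (CVar m) R) = _
      simp only [lev, mval, map_pow, MvPolynomial.aeval_X]
      ring
  have hsm : ∀ (r : R) z, φ (r • z) = algebraMap R L r * φ z := fun r z =>
    (congrArg φ (Algebra.smul_def r z)).trans (by rw [map_mul, AlgHom.commutes])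
  have h := congrArg (fun z => ps t ^ N * φ z) hl
  simp only [map_zero, mul_zero, Finsupp.linearCombination_apply, Finsupp.sum, map_sum, hsm, hb, Finset.mul_sum] at h
  have h2 : ∑ b ∈ l.support, PowerSeries.C (l b) * (t ^ (N - lev b) * mval G b) = 0 := by
    apply ps_injective
    rw [map_zero, ← h, map_sum]
    refine Finset.sum_congr rfl fun b _ => ?_
    rcases lt_or_ge N (lev b) with hlt | hle
    · simp [hN b hlt]
    rw [algebraMap_eq, map_mul, map_mul, map_pow]
    conv_rhs => rw [← Nat.sub_add_cancel hle, pow_add]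
    have : (ps t : L) ^ lev b * T ^ lev b = 1 := by rw [← mul_pow, mul_comm, T_mul_t, one_pow]
    linear_combination (-(ps (PowerSeries.C (l b)) * ps t ^ (N - lev b) * ps (mval G b))) * this
  have h3 := congrArg PowerSeries.constantCoeff h2
  rw [map_zero, map_sum] at h3
  refine Eq.trans ?_ h3
  refine Finset.sum_congr rfl fun b _ => ?_
  rcases lt_or_ge N (lev b) with hlt | hle
  · simp [hN b hlt]
  have hm : PowerSeries.constantCoeff (mval G b) = mval (fun y => PowerSeries.constantCoeff (G y)) b := by
    match b with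
    | none => simp [mval]
    | some (Sum.inl k) => simp [mval]
    | some (Sum.inr (y, k)) => simp [mval]
  rcases eq_or_lt_of_le hle with he | hlt
  · rw [if_pos he, he, Nat.sub_self, pow_zero, one_mul, map_mul, PowerSeries.constantCoeff_C, hm]
  · rw [if_neg hlt.ne, map_mul, map_mul, map_pow, PowerSeries.constantCoeff_X,
      zero_pow (Nat.sub_ne_zero_of_lt hlt), zero_mul, mul_zero]

theorem linearIndependent_cmon {v : UGen m → R} (hv : Rels v) : LinearIndependent R (cmon R m v) := by
  classical
  rw [linearIndependent_iff]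
  intro l hl
  suffices H : ∀ d N, (l.support.sup lev) < N + d → ∀ b, N ≤ lev b → l b = 0 from
    Finsupp.ext fun b => H (l.support.sup lev + 1) 0 (by omega) b (Nat.zero_le _)
  intro d
  induction d with
  | zero =>
    intro N hN b hb
    by_contra hne
    have := Finset.le_sup (f := lev) (Finsupp.mem_support_iff.2 hne)
    omega
  | succ d ih =>
    intro N hN
    have hhi : ∀ b, N < lev b → l b = 0 := fun b hb => ih (N + 1) (by omega) b hb
    intro b hb
    rcases eq_or_lt_of_le hb with hb | hb
    swap
    · exact hhi b hb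
    -- a point at which only the monomial `b₀` has nonzero leading coefficient in degree `N`
    have key : ∀ (G : CVar m → P) (b₀ : Option (ℕ ⊕ (CVar m × ℕ))), Pt (cst v) (fun y => T * ps (G y)) →
        lev b₀ = N → mval (fun y => PowerSeries.constantCoeff (G y)) b₀ = 1 →
        (∀ b, lev b = N → b ≠ b₀ → l b * mval (fun y => PowerSeries.constantCoeff (G y)) b = 0) → l b₀ = 0 := by
      intro G b₀ hG h0 h1 hother
      have h := lead_eq_zero hG l hl N hhi
      rw [Finset.sum_eq_single b₀ (fun b _ hne => by
          split_ifs with hl'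
          · exact hother b hl' hne
          · rfl) (fun hnot => by rw [Finsupp.notMem_support_iff.1 hnot]; simp)] at h
      rwa [if_pos h0, h1, mul_one] at h
    have hvar : ∀ y k, k + 1 = N → l (some (Sum.inr (y, k))) = 0 := by
      intro y k hk
      cases y with
      | x2 =>
        obtain ⟨G, hG, h2, h3, hi⟩ := exists_p2 hv
        refine key G _ hG hk (by simp [mval, h2]) fun b hb hne => ?_
        match b with
        | none => simp [lev] at hb; omega
        | some (Sum.inl k') => simp [mval, h3]
        | some (Sum.inr (.x2, k')) => simp [lev] at hb; exact absurd (by rw [show k' = k by omega]) hne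
        | some (Sum.inr (.x3, k')) => simp [mval, h3]
        | some (Sum.inr (.xi i, k')) => simp [mval, hi i]
      | x3 =>
        obtain ⟨G, hG, h2, h3, hi⟩ := exists_p3 hv
        refine key G _ hG hk (by simp [mval, h3]) fun b hb hne => ?_
        match b with
        | none => simp [lev] at hb; omega
        | some (Sum.inl k') => simp [mval, h2]
        | some (Sum.inr (.x2, k')) => simp [mval, h2]
        | some (Sum.inr (.x3, k')) => simp [lev] at hb; exact absurd (by rw [show k' = k by omega]) hne
        | some (Sum.inr (.xi i, k')) => simp [mval, hi i]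
      | xi i =>
        obtain ⟨G, hG, h2, h3, h1, hi⟩ := exists_pi hv i
        refine key G _ hG hk (by simp [mval, h1]) fun b hb hne => ?_
        match b with
        | none => simp [lev] at hb; omega
        | some (Sum.inl k') => simp [mval, h2]
        | some (Sum.inr (.x2, k')) => simp [mval, h2]
        | some (Sum.inr (.x3, k')) => simp [mval, h3]
        | some (Sum.inr (.xi j, k')) =>
          rcases eq_or_ne i j with rfl | hij
          · simp [lev] at hb; exact absurd (by rw [show k' = k by omega]) hne
          · simp [mval, hi j hij]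
    obtain ⟨G, hG, h1⟩ := exists_p1 hv
    match b with
    | some (Sum.inr (y, k)) => exact hvar y k hb.symm
    | none =>
      refine key G none hG hb.symm rfl fun b' hb' hne => ?_
      match b' with
      | none => exact absurd rfl hne
      | some (Sum.inl k') => simp [lev] at hb' hb; omega
      | some (Sum.inr (y, k')) => simp [lev] at hb' hb; omega
    | some (Sum.inl k) =>
      refine key G _ hG hb.symm (by simp [mval, h1]) fun b' hb' hne => ?_
      match b' with
      | none => simp [lev] at hb' hb; omega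
      | some (Sum.inl k') => simp [lev] at hb' hb; exact absurd (by rw [show k' = k by omega]) hne
      | some (Sum.inr (y, k')) => rw [hvar y k' hb', zero_mul]

end UCurveLib
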