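import Groth.Prelude.Def_W4c5m1nsnscurvesC
import Mathlib.Tactic.LinearCombination
import Mathlib.Tactic.Ring
import Mathlib.Algebra.Group.Units.Basic

/-!
# The relations of `U_n` and points of the curve over a point of `U_n`
-/

set_option autoImplicit false

universe u

open W4c5m1nsnscurves

namespace UCurveLib

variable {L : Type u} [CommRing L] {m : ℕ}

/-- The values `v` satisfy the relations of `U_n`. -/
structure Rels (v : UGen m → L) : Prop where
  lin : ∀ i j (h : i ≠ j), v (.cij i j h) + v (.cij j i h.symm) = v .a + v (.ci i) + v (.cbi i) + v (.ci j) + v (.cbi j)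
  q1 : ∀ i j (h : i ≠ j), v .c = v (.cij j i h.symm) * v (.ci j) + v (.cij i j h) * v (.ci i) - v (.ci i) * v (.ci j)
  q2 : ∀ i j (h : i ≠ j), v .cb = v (.cij j i h.symm) * v (.cbi i) + v (.cij i j h) * v (.cbi j) - v (.cbi i) * v (.cbi j)
  q3 : ∀ i j k (hij : i ≠ j) (hjk : j ≠ k) (hik : i ≠ k),
    v (.cij i j hij) * v (.cij j k hjk) + v (.cij j i hij.symm) * v (.cij i k hik) -
      v (.cij i k hik) * v (.cij j k hjk) + (v .a + v (.ci k) + v (.cbi k)) * v (.ci k) = v .c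

/-- `x` is a point of the curve over `v`. -/
structure Pt (v : UGen m → L) (x : CVar m → L) : Prop where
  r2 : ∀ i, x .x2 * x (.xi i) = x .x2 * x .x3 + v (.ci i) * x (.xi i) + v (.cbi i) * x .x2 - v .c
  r3 : ∀ i, x .x3 * x (.xi i) = x .x2 * x .x3 + (v .a + v (.ci i) + v (.cbi i)) * (x (.xi i) - v (.cbi i)) + v .cb - v .c
  r4 : ∀ i j (h : i ≠ j), x (.xi i) * x (.xi j) =
    x .x2 * x .x3 + v (.cij i j h) * x (.xi j) + v (.cij j i h.symm) * x (.xi i) - v .c

/-- The constant term of the plane cubic. -/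
def dd (v : UGen m → L) (i : Fin m) : L :=
  (v .a + v (.ci i) + v (.cbi i)) * (v (.ci i) * v (.cbi i) - v .c) + v (.ci i) * (v .c - v .cb)

theorem Rels.dd_eq {v : UGen m → L} (hv : Rels v) (i j : Fin m) : dd v i = dd v j := by
  by_cases h : i = j
  · rw [h]
  have := hv.lin i j h
  have := hv.q1 i j h
  have := hv.q2 i j h
  simp only [dd]
  grind

/-- The plane cubic. -/
def Cubic (v : UGen m → L) (i : Fin m) (y z : L) : Prop :=
  y * z ^ 2 - y ^ 2 * z = v .a * y * z + (v .cb - v .c) * y + v .c * z + dd v i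

theorem Rels.cubic {v : UGen m → L} (hv : Rels v) {i j : Fin m} {y z : L} (h : Cubic v i y z) : Cubic v j y z := by
  unfold Cubic at h ⊢
  rwa [hv.dd_eq j i]

theorem cubic_of_pt {v : UGen m → L} (i : Fin m) (y z w : L)
    (h2 : y * w = y * z + v (.ci i) * w + v (.cbi i) * y - v .c)
    (h3 : z * w = y * z + (v .a + v (.ci i) + v (.cbi i)) * (w - v (.cbi i)) + v .cb - v .c) :
    Cubic v i y z := by
  simp only [Cubic, dd]
  grind

/-- A point of the cubic where all `y - c_i` are units. -/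
theorem pt_of_cubic₂ {v : UGen m → L} (hv : Rels v) (x : CVar m → L)
    (hc : ∀ i, Cubic v i (x .x2) (x .x3)) (hu : ∀ i, IsUnit (x .x2 - v (.ci i)))
    (hX : ∀ i, (x .x2 - v (.ci i)) * x (.xi i) = x .x2 * x .x3 + v (.cbi i) * x .x2 - v .c) :
    Pt v x := by
  refine ⟨fun i => by linear_combination hX i, fun i => ?_, fun i j h => ?_⟩
  · refine (hu i).mul_left_cancel ?_
    have h1 := hc i
    have h2 := hX i
    simp only [Cubic, dd] at h1
    grind
  · refine (hu i).mul_left_cancel ((hu j).mul_left_cancel ?_)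
    have h1 := hc i
    have h2 := hX i
    have h3 := hX j
    simp only [Cubic, dd] at h1
    have lij := hv.lin i j h
    have q1ij := hv.q1 i j h
    have q2ij := hv.q2 i j h
    linear_combination ((x .x2 - v (.ci j)) * x (.xi j) - v (.cij j i h.symm) * (x .x2 - v (.ci j))) * h2 +
      (x .x2 * x .x3 + v (.cbi i) * x .x2 - v .c - v (.cij i j h) * (x .x2 - v (.ci i))) * h3 + x .x2 * h1 +
      (- (x .x2)^2*(x .x3) - (v (.cbi i))*(v (.ci i))*(x .x2) + (v .c)*(x .x2)) * lij + (- (x .x2)*(x .x3) - (v (.cbi i))*(x .x2) + (v .c)) * q1ij + ((x .x2)^2 - (v (.ci i))*(x .x2)) * q2ij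

/-- A point of the cubic where all `z - (a + c_i + c̄_i)` are units. -/
theorem pt_of_cubic₃ {v : UGen m → L} (hv : Rels v) (x : CVar m → L)
    (hc : ∀ i, Cubic v i (x .x2) (x .x3)) (hu : ∀ i, IsUnit (x .x3 - (v .a + v (.ci i) + v (.cbi i))))
    (hX : ∀ i, (x .x3 - (v .a + v (.ci i) + v (.cbi i))) * x (.xi i) =
      x .x2 * x .x3 - (v .a + v (.ci i) + v (.cbi i)) * v (.cbi i) + v .cb - v .c) :
    Pt v x := by
  refine ⟨fun i => ?_, fun i => by linear_combination hX i, fun i j h => ?_⟩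
  · refine (hu i).mul_left_cancel ?_
    have h1 := hc i
    have h2 := hX i
    simp only [Cubic, dd] at h1
    grind
  · refine (hu i).mul_left_cancel ((hu j).mul_left_cancel ?_)
    have h1 := hc i
    have h2 := hX i
    have h3 := hX j
    simp only [Cubic, dd] at h1
    have lij := hv.lin i j h
    have q1ij := hv.q1 i j h
    have q2ij := hv.q2 i j h
    linear_combination ((x .x3 - (v .a + v (.ci j) + v (.cbi j))) * x (.xi j) -
        v (.cij j i h.symm) * (x .x3 - (v .a + v (.ci j) + v (.cbi j)))) * h2 +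
      (x .x2 * x .x3 - (v .a + v (.ci i) + v (.cbi i)) * v (.cbi i) + v .cb - v .c -
        v (.cij i j h) * (x .x3 - (v .a + v (.ci i) + v (.cbi i)))) * h3 - x .x3 * h1 +
      (- (x .x2)*(x .x3)^2 + (v (.cbi j))*(x .x2)*(x .x3) + (v (.cbi i))*(x .x2)*(x .x3) + (v (.cbi i))*(v (.ci i))*(x .x3) - (v (.cbi i))*(v (.cbi j))*(x .x3) - (v .cb)*(x .x3) + (v .cb)*(v (.cbi j)) + (v .cb)*(v (.cbi i)) + (v .c)*(x .x3) - (v .c)*(v (.cbi j)) - (v .c)*(v (.cbi i)) + (v .a)*(x .x2)*(x .x3) + (v .a)*(v .cb) - (v .a)*(v .c)) * lij + (- (x .x2)*(x .x3) + (v (.cbi i))*(x .x3) - (v .cb) + (v .c)) * q1ij + (- (v (.cbi j))*(x .x3) + (v (.cbi j))*(v (.ci i)) + (x .x2)*(x .x3) - (v (.ci j))*(x .x3) + (v (.ci i))*(v (.ci j)) - (v (.cbi i))*(x .x3) + (v (.cbi i))*(v (.ci j)) + (v (.cbi i))*(v (.cbi j)) + (v .cb) - (v .c) + (v .a)^2 + (v .a)*(v (.cbi j)) - (v .a)*(x .x3) + (v .a)*(v (.ci j)) + (v .a)*(v (.ci i)) + (v .a)*(v (.cbi i))) * q2ij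

/-- A point of the `i`-th chart. -/
theorem pt_of_chart {v : UGen m → L} (hv : Rels v) (x : CVar m → L) (i : Fin m)
    (h2 : x .x2 * x (.xi i) = x .x2 * x .x3 + v (.ci i) * x (.xi i) + v (.cbi i) * x .x2 - v .c)
    (h3 : x .x3 * x (.xi i) = x .x2 * x .x3 + (v .a + v (.ci i) + v (.cbi i)) * (x (.xi i) - v (.cbi i)) + v .cb - v .c)
    (hu : ∀ j (h : i ≠ j), IsUnit (x (.xi i) - v (.cij i j h)))
    (hX : ∀ j (h : i ≠ j), (x (.xi i) - v (.cij i j h)) * x (.xi j) =
      x .x2 * x .x3 + v (.cij j i h.symm) * x (.xi i) - v .c) :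
    Pt v x := by
  have hcub := cubic_of_pt i _ _ _ h2 h3
  simp only [Cubic, dd] at hcub
  refine ⟨fun j => ?_, fun j => ?_, fun j k hjk => ?_⟩
  · rcases eq_or_ne i j with rfl | h
    · exact h2
    refine (hu j h).mul_left_cancel ?_
    have h4 := hX j h
    have lij := hv.lin i j h
    have q1ij := hv.q1 i j h
    have q2ij := hv.q2 i j h
    linear_combination (x .x2 - v (.ci j)) * h4 + (v (.cij j i h.symm) - v (.cbi j) - x .x3) * h2 -
      v (.ci i) * h3 - hcub +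
      ((x .x2)*(x .x3) + (v (.ci i))*(x (.xi i)) - (v .c)) * lij + ((x (.xi i))) * q1ij + (- (x .x2)) * q2ij
  · rcases eq_or_ne i j with rfl | h
    · exact h3
    refine (hu j h).mul_left_cancel ?_
    have h4 := hX j h
    have lij := hv.lin i j h
    have q1ij := hv.q1 i j h
    have q2ij := hv.q2 i j h
    linear_combination (x .x3 - (v .a + v (.ci j) + v (.cbi j))) * h4 +
      (v (.cij j i h.symm) - x .x2) * h3 - (v .a + v (.ci i) + v (.cbi i)) * h2 + hcub +
      ((x .x2)*(x .x3) + (v (.ci i))*(x (.xi i)) - (v (.cbi j))*(x (.xi i)) - (v (.cbi i))*(v (.ci i)) + (v (.cbi i))*(v (.cbi j)) + (v .cb) - (v .c)) * lij + ((x (.xi i)) - (v (.cbi i))) * q1ij + ((v (.cbi j)) - (x (.xi i)) + (v (.ci j)) + (v (.cbi i)) + (v .a)) * q2ij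
  · rcases eq_or_ne i j with rfl | hij
    · linear_combination hX k hjk
    rcases eq_or_ne i k with rfl | hik
    · linear_combination hX j hij
    refine (hu j hij).mul_left_cancel ((hu k hik).mul_left_cancel ?_)
    have h4 := hX j hij
    have h5 := hX k hik
    have lij := hv.lin i j hij
    have lik := hv.lin i k hik
    have ljk := hv.lin j k hjk
    have q1ij := hv.q1 i j hij
    have q2ij := hv.q2 i j hij
    have q3ikj := hv.q3 i k j hik hjk.symm hij
    have q3jki := hv.q3 j k i hjk hik.symm hij.symm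
    linear_combination 
      ((x (.xi i) - v (.cij i k hik)) * x (.xi k) - v (.cij k j hjk.symm) * (x (.xi i) - v (.cij i k hik))) * h4 +
      (x .x2 * x .x3 + v (.cij j i hij.symm) * x (.xi i) - v .c - v (.cij j k hjk) * (x (.xi i) - v (.cij i j hij))) * h5 +
      (v (.cbi i) * x .x3 - x .x3 * x (.xi i) - (v .a + v (.ci i) + v (.cbi i)) * v (.cbi i)) * h2 +
      (v (.cbi i) * v (.ci i) - (x .x2 * x .x3 + v (.ci i) * x (.xi i) + v (.cbi i) * x .x2 - v .c)) * h3 +
      v (.cbi i) * hcub +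
      (- (x (.xi i))*(x .x2)*(x .x3) + (v (.cij i j hij))*(x .x2)*(x .x3) + (v .c)*(x (.xi i)) - (v .c)*(v (.cij i j hij))) * ljk + ((x (.xi i))*(x .x2)*(x .x3) - (v (.cij i j hij))*(x .x2)*(x .x3) - (v .c)*(x (.xi i)) + (v .c)*(v (.cij i j hij))) * lik + (- (x (.xi i))^2 + (v (.cij i j hij))*(x (.xi i))) * q3jki + ((x (.xi i))*(x .x2)*(x .x3) + (v (.ci j))*(x .x2)*(x .x3) + (v (.ci i))*(v (.ci j))*(x (.xi i)) - (v (.cbi i))*(x .x2)*(x .x3) - (v (.cbi i))*(v (.ci i))*(x (.xi i)) - (v .c)*(v (.ci j)) + (v .c)*(v (.cbi i))) * lij + ((x .x2)*(x .x3) + (v (.cij j i hij.symm))*(x (.xi i)) - (v .c)) * q3ikj + ((x .x2)*(x .x3) + (v (.ci i))*(x (.xi i)) + (v (.ci j))*(x (.xi i)) + (v (.cbi j))*(x (.xi i)) - (v .c) + (v .a)*(x (.xi i))) * q1ij + (- (x .x2)*(x .x3) - (v (.ci i))*(x (.xi i)) + (v .c)) * q2ij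

end UCurveLib
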